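import Cfsg.Agent.Lib.LargeFischer.Thompson.Orbits

/-!
# The six lines of non-central vectors in the fixed space
-/

set_option autoImplicit false
set_option linter.unusedSectionVars false
set_option linter.style.haveILetI false
set_option maxHeartbeats 1000000

namespace CfsgLib.LargeFischer.Thompson

open Subgroup QuadraticMap
open CfsgLib.Schur.Tails.UFour (H4)

/-- Even permutations carry any three points to any three points. -/
theorem exists_even_three {i j r : Fin 6} (h1 : i ≠ j) (h2 : i ≠ r) (h3 : j ≠ r) :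
    ∃ σ : Equiv.Perm (Fin 6), σ ∈ alternatingGroup (Fin 6) ∧ σ 0 = i ∧ σ 1 = j ∧ σ 2 = r := by
  obtain ⟨σ, hσ⟩ : ∃ σ : Equiv.Perm (Fin 6), σ 0 = i ∧ σ 1 = j ∧ σ 2 = r := by
    refine ⟨Equiv.swap i ((Equiv.swap j ((Equiv.swap (2 : Fin 6) r) 1) * Equiv.swap (2 : Fin 6) r) 0) *
      (Equiv.swap j ((Equiv.swap (2 : Fin 6) r) 1) * Equiv.swap (2 : Fin 6) r), ?_⟩
    set a := Equiv.swap (2 : Fin 6) r
    set b := Equiv.swap j (a 1)
    have ha : a 2 = r := Equiv.swap_apply_left _ _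
    have hb1 : b (a 1) = j := Equiv.swap_apply_right _ _
    have hb2 : b (a 2) = r := by
      rw [ha]
      refine Equiv.swap_apply_of_ne_of_ne (Ne.symm h3) fun e => ?_
      exact absurd (a.injective (ha.trans e)) (by decide)
    refine ⟨?_, ?_, ?_⟩
    · simp [Equiv.Perm.mul_apply]
    · show Equiv.swap i (b (a 0)) (b (a 1)) = j
      rw [hb1]
      refine Equiv.swap_apply_of_ne_of_ne (Ne.symm h1) fun e => ?_
      exact absurd (a.injective (b.injective (hb1.trans e))) (by decide)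
    · show Equiv.swap i (b (a 0)) (b (a 2)) = r
      rw [hb2]
      refine Equiv.swap_apply_of_ne_of_ne (Ne.symm h2) fun e => ?_
      exact absurd (a.injective (b.injective (hb2.trans e))) (by decide)
  rcases Int.units_eq_one_or (Equiv.Perm.sign σ) with h | h
  · exact ⟨σ, Equiv.Perm.mem_alternatingGroup.2 h, hσ⟩
  · refine ⟨σ * Equiv.swap 3 4, Equiv.Perm.mem_alternatingGroup.2 ?_, ?_, ?_, ?_⟩
    · rw [map_mul, h, Equiv.Perm.sign_swap (by decide)]; rfl
    · rw [Equiv.Perm.mul_apply, Equiv.swap_apply_of_ne_of_ne (by decide) (by decide)]; exact hσ.1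
    · rw [Equiv.Perm.mul_apply, Equiv.swap_apply_of_ne_of_ne (by decide) (by decide)]; exact hσ.2.1
    · rw [Equiv.Perm.mul_apply, Equiv.swap_apply_of_ne_of_ne (by decide) (by decide)]; exact hσ.2.2

variable {G : Type*} [Group G] [Finite G] {z : G}
  {Q : Subgroup (centralizer ({z} : Set G))} [Q.Normal] {V : Type*} [AddCommGroup V] [Module (ZMod 2) V]
  [DistribMulAction ((centralizer ({z} : Set G)) ⧸ Q) V] [Finite V] {q : QuadraticForm (ZMod 2) V} {π : ↥Q → V}
  {n : (centralizer ({z} : Set G)) ⧸ Q} {M : Subgroup ((centralizer ({z} : Set G)) ⧸ Q)} {φ : ↥M →* ↥H4}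
  {s : V} {E : Subgroup ((centralizer ({z} : Set G)) ⧸ Q)} {D : AddSubgroup V}
  {A : Subgroup G} {Ab : Subgroup ((centralizer ({z} : Set G)) ⧸ Q)}

/-- The non-central vectors of the fixed space. -/
def ncset (Ab : Subgroup ((centralizer ({z} : Set G)) ⧸ Q)) (s : V) : Set V :=
  {v : V | v ∈ (fixSub Ab : AddSubgroup V) ∧ v ≠ 0 ∧ v ∉ MulAction.orbit ((centralizer ({z} : Set G)) ⧸ Q) s}

/-- The span of two lines. -/
def span2 (n : (centralizer ({z} : Set G)) ⧸ Q) (v w : V) : Set V :=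
  (fun p : V × V => p.1 + p.2) '' (ln n v ×ˢ ln n w)

/-- Representatives of the six lines and a lift of the element of order three. -/
structure SixData (n : (centralizer ({z} : Set G)) ⧸ Q) (Ab : Subgroup ((centralizer ({z} : Set G)) ⧸ Q)) (s : V)
    (T : Fin 6 → V) (nt : centralizer ({z} : Set G)) : Prop where
  mem : ∀ i, T i ∈ ncset Ab s
  cover : ∀ v ∈ ncset Ab s, ∃ i, v ∈ ln n (T i)
  indep : ∀ i j, T j ∈ ln n (T i) → i = j
  lift : QuotientGroup.mk' Q nt = n
  cube : nt * nt * nt = 1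

namespace Ctx

variable (c : Ctx Q q π n M φ s E D A Ab)
include c

theorem nc_smul {k : (centralizer ({z} : Set G)) ⧸ Q} (hk : k ∈ Subgroup.normalizer (Ab : Set _)) {v : V}
    (hv : v ∈ ncset Ab s) : k • v ∈ ncset Ab s :=
  ⟨Core.smul_fixSub (fun y hy a ha => (mem_normalizer_iff.1 hy a).1 ha) hk hv.1,
    fun e => hv.2.1 (MulAction.injective k (e.trans (smul_zero _).symm)),
    fun ⟨g, hg⟩ => hv.2.2 ⟨k⁻¹ * g, by
      show (k⁻¹ * g) • s = v
      rw [mul_smul, show g • s = k • v from hg, inv_smul_smul]⟩⟩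

theorem n_normalizes : n ∈ Subgroup.normalizer (Ab : Set ((centralizer ({z} : Set G)) ⧸ Q)) := by
  have h : ∀ a ∈ Ab, n * a * n⁻¹ = a := fun a ha => by
    rw [← c.oth.core.commute (c.oth.le ha), mul_inv_cancel_right]
  refine mem_normalizer_iff.2 fun a => ⟨fun ha => (h a ha).symm ▸ ha, fun ha => ?_⟩
  have e := h _ ha
  have : n * a * n⁻¹ = a := mul_left_cancel (mul_right_cancel e)
  rwa [this] at ha

theorem ln_nc {v x : V} (hv : v ∈ ncset Ab s) (hx : x ∈ ln n v) (hx0 : x ≠ 0) : x ∈ ncset Ab s := by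
  rcases hx with rfl | rfl | rfl | rfl
  · exact absurd rfl hx0
  · exact hv
  · exact c.nc_smul c.n_normalizes hv
  · exact c.nc_smul c.n_normalizes (c.nc_smul c.n_normalizes hv)

theorem nc_ncard : (ncset Ab s).ncard = 18 := by
  have e : ncset Ab s = (((fixSub Ab : AddSubgroup V) : Set V) \ {0}) \ cset Ab s := Set.ext fun v =>
    ⟨fun h => ⟨⟨h.1, h.2.1⟩, fun h' => h.2.2 h'.2.2⟩, fun h => ⟨h.1.1, h.1.2, fun h' => h.2 ⟨h.1.1, h.1.2, h'⟩⟩⟩
  rw [e, Set.ncard_sdiff (show cset Ab s ⊆ ((fixSub Ab : AddSubgroup V) : Set V) \ {0} from fun v hv => ⟨hv.1, hv.2.1⟩), c.Zs_facts.2,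
    Set.ncard_sdiff (show ({0} : Set V) ⊆ ((fixSub Ab : AddSubgroup V) : Set V) from Set.singleton_subset_iff.2 (zero_mem _)), Set.ncard_singleton,
    ← Nat.card_coe_set_eq, SetLike.coe_sort_coe, c.oth.facts.2.1]

theorem exists_six : ∃ (T : Fin 6 → V) (nt : centralizer ({z} : Set G)), SixData n Ab s T nt := by
  classical
  letI := Fintype.ofFinite V
  set S := (ncset Ab s).toFinset with hS
  have hfib : ∀ ℓ ∈ S.image (ln n), (S.filter fun v => ln n v = ℓ).card = 3 := by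
    intro ℓ hℓ
    obtain ⟨v, hv, rfl⟩ := Finset.mem_image.1 hℓ
    rw [hS, Set.mem_toFinset] at hv
    have heq : ∀ x ∈ ln n v, x ≠ 0 → ln n x = ln n v := fun x hx hx0 => by
      refine Set.eq_of_subset_of_ncard_le ?_ (by rw [c.oth.ln_ncard hx0, c.oth.ln_ncard hv.2.1]) (Set.toFinite _)
      rintro y (rfl | rfl | rfl | rfl)
      exacts [Or.inl rfl, hx, c.oth.ln_smul hx, c.oth.ln_smul (c.oth.ln_smul hx)]
    have e : (S.filter fun x => ln n x = ln n v) = {v, n • v, n • n • v} := by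
      ext x
      simp only [Finset.mem_filter, hS, Set.mem_toFinset, Finset.mem_insert, Finset.mem_singleton]
      constructor
      · rintro ⟨hx, hl⟩
        exact ((hl ▸ Or.inr (Or.inl rfl) : x ∈ ln n v)).resolve_left hx.2.1
      · intro hx
        have hmem : x ∈ ln n v := Or.inr hx
        have hx0 : x ≠ 0 := by
          obtain ⟨a, b, d, e, f⟩ := c.oth.n_move hv.2.1
          rcases hx with rfl | rfl | rfl
          exacts [hv.2.1, e, f]
        exact ⟨c.ln_nc hv hmem hx0, heq x hmem hx0⟩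
    obtain ⟨a, b, d, -, -⟩ := c.oth.n_move hv.2.1
    rw [e, Finset.card_insert_of_notMem, Finset.card_pair d.symm]
    simp only [Finset.mem_insert, Finset.mem_singleton, not_or]
    exact ⟨a.symm, b.symm⟩
  have h6 : Fintype.card ↥(S.image (ln n)) = 6 := by
    rw [Fintype.card_coe]
    have h := Finset.card_eq_sum_card_image (ln n) S
    rw [Finset.sum_const_nat hfib, hS, ← Set.ncard_eq_toFinset_card', c.nc_ncard, ← hS] at h
    omega
  let e := (Fintype.equivFinOfCardEq h6).symm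
  choose f hf using fun i => Finset.mem_image.1 (e i).2
  obtain ⟨x, hx⟩ := QuotientGroup.mk'_surjective Q n
  refine ⟨f, x ^ (2 ^ 14), fun i => Set.mem_toFinset.1 (hf i).1, fun v hv => ?_, fun i j h => ?_, ?_, ?_⟩
  · refine ⟨e.symm ⟨ln n v, Finset.mem_image.2 ⟨v, Set.mem_toFinset.2 hv, rfl⟩⟩, ?_⟩
    rw [(hf _).2, e.apply_symm_apply]
    exact Or.inr (Or.inl rfl)
  · refine e.injective (Subtype.ext ?_)
    rw [← (hf i).2, ← (hf j).2]
    have hj : f j ∈ ncset Ab s := Set.mem_toFinset.1 (hf j).1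
    have hi : f i ∈ ncset Ab s := Set.mem_toFinset.1 (hf i).1
    refine (Set.eq_of_subset_of_ncard_le ?_ (by rw [c.oth.ln_ncard hj.2.1, c.oth.ln_ncard hi.2.1]) (Set.toFinite _)).symm
    rintro y (rfl | rfl | rfl | rfl)
    exacts [Or.inl rfl, h, c.oth.ln_smul h, c.oth.ln_smul (c.oth.ln_smul h)]
  · rw [map_pow, hx, show 2 ^ 14 = 3 * 5461 + 1 by norm_num, pow_succ, pow_mul, show n ^ 3 = 1 by
      rw [pow_succ, pow_two, c.oth.core.n_three], one_pow, one_mul]
  · have h3 : x ^ 3 ∈ Q := (QuotientGroup.eq_one_iff _).1 (by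
      show QuotientGroup.mk' Q (x ^ 3) = 1
      rw [map_pow, hx, pow_succ, pow_two, c.oth.core.n_three])
    have hd : orderOf (x ^ 3) ∣ 2 ^ 14 := by
      rw [← Subgroup.orderOf_mk (x ^ 3) h3]
      exact (_root_.orderOf_dvd_natCard _).trans (c.hF.1.2.2.2.1 ▸ pow_dvd_pow 2 (by norm_num))
    calc x ^ 2 ^ 14 * x ^ 2 ^ 14 * x ^ 2 ^ 14 = (x ^ 3) ^ 2 ^ 14 := by rw [← pow_add, ← pow_add, ← pow_mul]; congr 1
      _ = 1 := orderOf_dvd_iff_pow_eq_one.1 hd

variable {T : Fin 6 → V} {nt : centralizer ({z} : Set G)} (d : SixData n Ab s T nt)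
include d

theorem T_ne (i : Fin 6) : T i ≠ 0 := (d.mem i).2.1

theorem T_F (i : Fin 6) : T i ∈ (fixSub Ab : AddSubgroup V) := (d.mem i).1

theorem line_index {i j : Fin 6} {x : V} (hx : x ≠ 0) (hi : x ∈ ln n (T i)) (hj : x ∈ ln n (T j)) : i = j :=
  d.indep i j (c.oth.ln_disjoint hj hx hi)

theorem exists_idx {v : V} (hv : v ∈ ncset Ab s) : ∃! i, v ∈ ln n (T i) := by
  obtain ⟨i, hi⟩ := d.cover v hv
  exact ⟨i, hi, fun j hj => c.line_index d hv.2.1 hj hi⟩

/-- Lifts can be chosen to commute with the element of order three. -/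
theorem comm_lift {k : (centralizer ({z} : Set G)) ⧸ Q} (hk : k ∈ M) :
    ∃ w : centralizer ({z} : Set G), QuotientGroup.mk' Q w = k ∧ w * nt = nt * w := by
  classical
  haveI := Fact.mk Nat.prime_three
  obtain ⟨w₀, hw₀⟩ := QuotientGroup.mk'_surjective Q k
  set R := (zpowers n).comap (QuotientGroup.mk' Q) with hR
  set nt' := w₀ * nt * w₀⁻¹ with hnt'
  have hl' : QuotientGroup.mk' Q nt' = n := by
    rw [hnt', map_mul, map_mul, map_inv, hw₀, d.lift, c.oth.core.commute hk, mul_inv_cancel_right]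
  have hord : ∀ y : centralizer ({z} : Set G), QuotientGroup.mk' Q y = n → y * y * y = 1 → orderOf y = 3 := by
    intro y hy h3
    refine orderOf_eq_prime (by rw [pow_succ, pow_two]; exact h3) fun e => c.oth.core.n_ne ?_
    rw [← hy, e, map_one]
  have hc3 : nt' * nt' * nt' = 1 := by
    rw [hnt', show w₀ * nt * w₀⁻¹ * (w₀ * nt * w₀⁻¹) * (w₀ * nt * w₀⁻¹) = w₀ * (nt * nt * nt) * w₀⁻¹ by group, d.cube]
    group
  have hcR : Nat.card ↥R = 3 * 2 ^ 13 := by
    have h := Subgroup.card_eq_card_quotient_mul_card_subgroup ((Q.subgroupOf R))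
    have hQR : Q ≤ R := fun y hy => by
      show QuotientGroup.mk' Q y ∈ zpowers n
      rw [show QuotientGroup.mk' Q y = 1 from (QuotientGroup.eq_one_iff _).2 hy]
      exact one_mem _
    rw [Nat.card_congr (subgroupOfEquivOfLe hQR).toEquiv, c.hF.1.2.2.2.1] at h
    rw [h]
    congr 1
    let f : ↥R →* ↥(zpowers n) := ((QuotientGroup.mk' Q).comp R.subtype).codRestrict _ fun y => y.2
    have hf : Function.Surjective f := fun y => by
      obtain ⟨x, hx⟩ := QuotientGroup.mk'_surjective Q (y : (centralizer ({z} : Set G)) ⧸ Q)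
      exact ⟨⟨x, show QuotientGroup.mk' Q x ∈ zpowers n by rw [hx]; exact y.2⟩, Subtype.ext hx⟩
    have hker : f.ker = Q.subgroupOf R := by
      ext y
      exact ⟨fun hy => (QuotientGroup.eq_one_iff (y : centralizer ({z} : Set G))).1 (congrArg Subtype.val hy),
        fun hy => Subtype.ext ((QuotientGroup.eq_one_iff _).2 hy)⟩
    have h' := f.ker.card_mul_index
    rw [index_ker, MonoidHom.range_eq_top.2 hf, card_top, c.oth.core.card_zn, hker] at h'
    have hq := (Q.subgroupOf R).card_mul_index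
    rw [← Subgroup.index] at *
    nlinarith [Nat.card_pos (α := ↥(Q.subgroupOf R))]
  have hmemR : ∀ y : centralizer ({z} : Set G), QuotientGroup.mk' Q y = n → y ∈ R := fun y hy => by
    show QuotientGroup.mk' Q y ∈ zpowers n
    rw [hy]; exact mem_zpowers n
  have hsyl : ∀ (y : centralizer ({z} : Set G)) (hy : QuotientGroup.mk' Q y = n), y * y * y = 1 →
      ∃ P : Sylow 3 ↥R, (P : Subgroup ↥R) = zpowers ⟨y, hmemR y hy⟩ := by
    intro y hy h3
    have hc : Nat.card ↥(zpowers (⟨y, hmemR y hy⟩ : ↥R)) = 3 := by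
      rw [Nat.card_zpowers, Subgroup.orderOf_mk, hord y hy h3]
    obtain ⟨P, hP⟩ := (IsPGroup.of_card (n := 1) (hc.trans (pow_one 3).symm)).exists_le_sylow
    refine ⟨P, (eq_of_le_of_card_ge hP ?_).symm⟩
    obtain ⟨e, he⟩ := IsPGroup.iff_card.1 P.2
    have hd : 3 ^ e ∣ 3 * 2 ^ 13 := he ▸ hcR ▸ Subgroup.card_subgroup_dvd_card _
    rw [he, hc]
    rcases e with _ | _ | e
    · norm_num
    · norm_num
    · exfalso
      have h2 : 3 ^ 2 ∣ 3 * 2 ^ 13 := (pow_dvd_pow 3 (by omega)).trans hd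
      norm_num at h2
  obtain ⟨P, hP⟩ := hsyl nt d.lift d.cube
  obtain ⟨P', hP'⟩ := hsyl nt' hl' hc3
  obtain ⟨r, hr⟩ := MulAction.exists_smul_eq ↥R P P'
  have hmem : (r : centralizer ({z} : Set G)) * nt * (r : centralizer ({z} : Set G))⁻¹ ∈
      zpowers nt' := by
    have h : MulAut.conj r ⟨nt, hmemR nt d.lift⟩ ∈ (P' : Subgroup ↥R) := by
      rw [← hr]
      exact Subgroup.smul_mem_pointwise_smul (⟨nt, hmemR nt d.lift⟩ : ↥R) (MulAut.conj r) (P : Subgroup ↥R)
        (hP ▸ mem_zpowers _)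
    rw [hP'] at h
    obtain ⟨k, hk⟩ := h
    exact ⟨k, congrArg Subtype.val hk⟩
  -- the image decides the exponent
  have hrn : QuotientGroup.mk' Q (r : centralizer ({z} : Set G)) * n * (QuotientGroup.mk' Q (r : centralizer ({z} : Set G)))⁻¹ = n := by
    obtain ⟨k, hk⟩ := mem_comap.1 r.2
    rw [← show n ^ k = QuotientGroup.mk' Q (r : centralizer ({z} : Set G)) from hk, ← zpow_add_one,
      ← zpow_neg, ← zpow_add]
    simp
  obtain ⟨i, hi⟩ := (isOfFinOrder_of_finite nt').mem_powers_iff_mem_zpowers.2 hmem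
  replace hi : nt' ^ i = _ := hi
  have hi1 : nt' ^ i = nt' := by
    have e := congrArg (QuotientGroup.mk' Q) hi
    rw [map_pow, hl', map_mul, map_mul, map_inv, d.lift, hrn] at e
    rw [← pow_mod_orderOf, hord nt' hl' hc3]
    rw [← pow_mod_orderOf, c.oth.core.ordn] at e
    have hlt := Nat.mod_lt i (show 3 > 0 by norm_num)
    interval_cases hh : i % 3
    · exact absurd (pow_zero n ▸ e).symm c.oth.core.n_ne
    · exact pow_one _
    · exfalso
      rw [pow_two, mul_eq_left] at e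
      exact c.oth.core.n_ne e
  rw [hi1] at hi
  obtain ⟨u, hu, e⟩ : ∃ u : centralizer ({z} : Set G), QuotientGroup.mk' Q u ∈ zpowers n ∧ u * nt * u⁻¹ = nt' :=
    ⟨r, r.2, hi.symm⟩
  obtain ⟨l, hl⟩ := hu
  -- remove the power of the element of order three
  set u' := u * nt ^ (-l)
  have hu' : QuotientGroup.mk' Q u' = 1 := by
    rw [map_mul, map_zpow, d.lift, ← show n ^ l = QuotientGroup.mk' Q u from hl, ← zpow_add]
    simp
  have e' : u' * nt * u'⁻¹ = nt' := by
    rw [← e]; simp only [u']; group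
  refine ⟨u'⁻¹ * w₀, by rw [map_mul, map_inv, hu', hw₀, inv_one, one_mul], ?_⟩
  have e2 : w₀ * nt = u' * nt * u'⁻¹ * w₀ := by rw [e', hnt', inv_mul_cancel_right]
  rw [mul_assoc, e2]; group

/-- A third line is outside the span of two. -/
theorem exists_perm (σ : Equiv.Perm (Fin 6)) (hσ : σ ∈ alternatingGroup (Fin 6)) :
    ∃ w : centralizer ({z} : Set G), (w : G) ∈ Subgroup.normalizer (A : Set G) ∧ QuotientGroup.mk' Q w ∈ M ∧
      w * nt = nt * w ∧ ∀ i, QuotientGroup.mk' Q w • T i ∈ ln n (T (σ i)) := by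
  classical
  obtain ⟨Y, g, hY, hYc, hAY, hnY, hg, hk⟩ := c.oth.exists_norm
  have hY' : ∀ y ∈ Y, y ∈ Subgroup.normalizer (Ab : Set _) ∧ y ∈ M := fun y hy => mem_inf.1 (hY ▸ hy)
  choose idx hidx using fun (y : ↥Y) (i : Fin 6) => (c.exists_idx d (c.nc_smul (hY' y y.2).1 (d.mem i)))
  have huniq : ∀ (y : ↥Y) (i j : Fin 6), (y : (centralizer ({z} : Set G)) ⧸ Q) • T i ∈ ln n (T j) → idx y i = j :=
    fun y i j h => ((hidx y i).2 j h).symm
  have hinj : ∀ y : ↥Y, Function.Injective (idx y) := fun y i j e => by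
    have h1 := (hidx y i).1
    have h2 := (hidx y j).1
    rw [e] at h1
    have hy0 : ∀ l, (y : (centralizer ({z} : Set G)) ⧸ Q) • T l ≠ 0 := fun l => (c.nc_smul (hY' y y.2).1 (d.mem l)).2.1
    have h3 := c.oth.ln_disjoint h2 (hy0 j) (Or.inr (Or.inl rfl))
    have h4 : (y : (centralizer ({z} : Set G)) ⧸ Q) • T i ∈ ln n ((y : (centralizer ({z} : Set G)) ⧸ Q) • T j) := by
      rcases h1 with a | a | a | a
      · exact absurd a (hy0 i)
      · exact a ▸ h3
      · exact a ▸ c.oth.ln_smul h3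
      · exact a ▸ c.oth.ln_smul (c.oth.ln_smul h3)
    have h5 := c.oth.smul_ln (M.inv_mem (hY' y y.2).2) h4
    rw [inv_smul_smul, inv_smul_smul] at h5
    exact (d.indep j i h5).symm
  let perm : ↥Y → Equiv.Perm (Fin 6) := fun y => Equiv.ofBijective _ (Finite.injective_iff_bijective.1 (hinj y))
  let ρ : ↥Y →* Equiv.Perm (Fin 6) := MonoidHom.mk' perm fun y y' => Equiv.ext fun i => by
    show idx (y * y') i = idx y (idx y' i)
    refine huniq _ _ _ ?_
    show ((y : (centralizer ({z} : Set G)) ⧸ Q) * (y' : (centralizer ({z} : Set G)) ⧸ Q)) • T i ∈ _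
    rw [mul_smul]
    have h1 := c.oth.smul_ln (hY' y y.2).2 (hidx y' i).1
    have h2 := (hidx y (idx y' i)).1
    rcases h1 with a | a | a | a
    · exact a ▸ Or.inl rfl
    · exact a ▸ h2
    · exact a ▸ c.oth.ln_smul h2
    · exact a ▸ c.oth.ln_smul (c.oth.ln_smul h2)
  have hker : g.ker ≤ ρ.ker := by
    intro y hy
    refine MonoidHom.mem_ker.2 (Equiv.ext fun i => huniq _ _ _ ?_)
    obtain ⟨a, ha, hw⟩ := hk y hy
    obtain ⟨w, hw', e⟩ : ∃ w ∈ zpowers n, (y : (centralizer ({z} : Set G)) ⧸ Q) = a * w :=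
      ⟨_, hw, by rw [mul_inv_cancel_left]⟩
    rw [e, mul_smul]
    have h1 : w • T i ∈ ln n (T i) := by
      rcases c.oth.core.zn_cases hw' with e | e | e <;> rw [e]
      · rw [one_smul]; exact Or.inr (Or.inl rfl)
      · exact Or.inr (Or.inr (Or.inl rfl))
      · rw [mul_smul]; exact Or.inr (Or.inr (Or.inr rfl))
    rw [(c.oth.ln_subset c.oth.facts.2.2.1 (c.T_F d i) h1) a ha]
    exact h1
  let θ : ↥(alternatingGroup (Fin 6)) →* Equiv.Perm (Fin 6) := g.liftOfSurjective hg ⟨ρ, hker⟩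
  have hθ : ∀ y, θ (g y) = ρ y := fun y => g.liftOfRightInverse_comp_apply _ _ ⟨ρ, hker⟩ y
  haveI : IsSimpleGroup ↥(alternatingGroup (Fin 6)) := alternatingGroup.isSimpleGroup (by simp)
  have hθinj : Function.Injective θ := by
    rw [← MonoidHom.ker_eq_bot_iff]
    refine (MonoidHom.normal_ker θ).eq_bot_or_eq_top.resolve_right fun e => ?_
    obtain ⟨y, hy, m1, m2, m3⟩ := c.oth.core.other_moves c.oth.cen c.oth.dat c.oth.le c.oth.elem c.oth.card
      (fun y hy => (hY' y hy).2) hYc hAY hnY (fun y hy a ha => (mem_normalizer_iff.1 (hY' y hy).1 a).1 ha) c.oth.count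
      (c.oth.facts.1 _ (c.T_F d 0)) (c.T_ne d 0) (c.T_F d 0)
    have h0 : idx ⟨y, hy⟩ 0 = 0 := by
      have h1 : θ (g ⟨y, hy⟩) = 1 := by rw [← MonoidHom.mem_ker, e]; trivial
      rw [hθ] at h1
      exact Equiv.congr_fun h1 0
    have h := (hidx ⟨y, hy⟩ 0).1
    rw [h0] at h
    rcases h with a | a | a | a
    · exact (c.nc_smul (hY' y hy).1 (d.mem 0)).2.1 a
    · exact m1 a
    · exact m2 a
    · exact m3 a
  have hrange : θ.range = alternatingGroup (Fin 6) := by
    refine Equiv.Perm.eq_alternatingGroup_of_index_eq_two ?_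
    have h := θ.range.card_mul_index
    rw [← Nat.card_congr (MonoidHom.ofInjective hθinj).toEquiv, nat_card_alternatingGroup, Nat.card_perm,
      Nat.card_fin] at h
    norm_num [Nat.factorial] at h
    omega
  obtain ⟨a, ha⟩ : σ ∈ θ.range := hrange.symm ▸ hσ
  obtain ⟨y, rfl⟩ := hg a
  rw [hθ] at ha
  obtain ⟨w, hw, hwn⟩ := c.comm_lift d (hY' y y.2).2
  refine ⟨w, c.mem_N_iff.2 (hw ▸ (hY' y y.2).1), hw ▸ (hY' y y.2).2, hwn, fun i => ?_⟩
  rw [hw, ← ha]
  exact (hidx y i).1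

theorem not_collinear {i j r : Fin 6} (hij : i ≠ j) (hir : i ≠ r) (hjr : j ≠ r) : T r ∉ span2 n (T i) (T j) := by
  classical
  intro hr
  -- carry the relation to every triple
  have hmove : ∀ {i j r : Fin 6} (σ : Equiv.Perm (Fin 6)), σ ∈ alternatingGroup (Fin 6) →
      T r ∈ span2 n (T i) (T j) → T (σ r) ∈ span2 n (T (σ i)) (T (σ j)) := by
    rintro i j r σ hσ ⟨⟨a, b⟩, ⟨ha, hb⟩, e⟩
    obtain ⟨w, -, hwM, -, hwT⟩ := c.exists_perm d σ hσ
    set k := QuotientGroup.mk' Q w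
    have hsub : ∀ l, ∀ x ∈ ln n (T l), k • x ∈ ln n (T (σ l)) := fun l x hx => by
      rcases c.oth.smul_ln hwM hx with a | a | a | a
      · exact a ▸ Or.inl rfl
      · exact a ▸ hwT l
      · exact a ▸ c.oth.ln_smul (hwT l)
      · exact a ▸ c.oth.ln_smul (c.oth.ln_smul (hwT l))
    have hk : k • T r ∈ span2 n (T (σ i)) (T (σ j)) :=
      ⟨(k • a, k • b), ⟨hsub i a ha, hsub j b hb⟩, by rw [← e]; exact (smul_add _ _ _).symm⟩
    have hs : ∀ x ∈ span2 n (T (σ i)) (T (σ j)), n • x ∈ span2 n (T (σ i)) (T (σ j)) := by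
      rintro _ ⟨⟨x, y⟩, ⟨hx, hy⟩, rfl⟩
      exact ⟨(n • x, n • y), ⟨c.oth.ln_smul hx, c.oth.ln_smul hy⟩, (smul_add _ _ _).symm⟩
    rcases hwT r with a | a | a | a
    · exact absurd (MulAction.injective k (a.trans (smul_zero _).symm)) (c.T_ne d r)
    · exact a ▸ hk
    · have := hs _ (hs _ (a ▸ hk))
      rwa [c.oth.core.smul_n_three] at this
    · have := hs _ (a ▸ hk)
      rwa [c.oth.core.smul_n_three] at this
  obtain ⟨σ, hσ, rfl, rfl, rfl⟩ := exists_even_three hij hir hjr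
  have h012 : T 2 ∈ span2 n (T 0) (T 1) := by
    have := hmove σ⁻¹ (inv_mem hσ) hr
    simpa using this
  have hall : ∀ r : Fin 6, T r ∈ span2 n (T 0) (T 1) := by
    intro r
    by_cases h0 : r = 0
    · exact ⟨(T 0, 0), ⟨Or.inr (Or.inl rfl), Or.inl rfl⟩, by rw [h0]; exact add_zero _⟩
    by_cases h1 : r = 1
    · exact ⟨(0, T 1), ⟨Or.inl rfl, Or.inr (Or.inl rfl)⟩, by rw [h1]; exact zero_add _⟩
    obtain ⟨τ, hτ, e0, e1, e2⟩ := exists_even_three (i := 0) (j := 1) (by decide) (Ne.symm h0) (Ne.symm h1)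
    have := hmove τ hτ h012
    rwa [e0, e1, e2] at this
  have hsub : ncset Ab s ⊆ span2 n (T 0) (T 1) \ {0} := by
    intro v hv
    obtain ⟨l, hl⟩ := d.cover v hv
    refine ⟨?_, hv.2.1⟩
    obtain ⟨⟨a, b⟩, ⟨ha, hb⟩, e⟩ := hall l
    rcases hl with x | x | x | x
    · exact absurd x hv.2.1
    · exact x ▸ ⟨(a, b), ⟨ha, hb⟩, e⟩
    · exact x ▸ ⟨(n • a, n • b), ⟨c.oth.ln_smul ha, c.oth.ln_smul hb⟩, e ▸ (smul_add _ _ _).symm⟩
    · exact x ▸ ⟨(n • n • a, n • n • b), ⟨c.oth.ln_smul (c.oth.ln_smul ha), c.oth.ln_smul (c.oth.ln_smul hb)⟩,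
        e ▸ ((smul_add n _ _).symm.trans (congrArg (n • ·) (smul_add n a b).symm))⟩
  have h := Set.ncard_le_ncard hsub (Set.toFinite _)
  rw [c.nc_ncard, Set.ncard_sdiff (show ({0} : Set V) ⊆ span2 n (T 0) (T 1) from Set.singleton_subset_iff.2
    ⟨(0, 0), ⟨Or.inl rfl, Or.inl rfl⟩, add_zero _⟩), Set.ncard_singleton, span2,
    c.oth.span_two (c.T_ne d 0) (fun h => absurd (d.indep 0 1 h) (by decide))] at h
  omega

end Ctx

end CfsgLib.LargeFischer.Thompson
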