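import Cfsg.Agent.Lib.LargeFischer.Thompson.Pairs

/-!
# The labelling of the 276 elements by the pairs of 24 points
-/

set_option autoImplicit false
set_option linter.unusedSectionVars false
set_option linter.style.haveILetI false
set_option maxHeartbeats 1000000

namespace CfsgLib.LargeFischer.Thompson

open Subgroup QuadraticMap
open CfsgLib.Schur.Tails.UFour (H4)

theorem six_pairs : ∀ i j : Fin 6, i ≠ j → i ≠ 0 → i ≠ 1 → j ≠ 0 → j ≠ 1 →
    (i, j) ∈ [((2 : Fin 6), (3 : Fin 6)), (2, 4), (2, 5), (3, 4), (3, 5), (4, 5)] ∨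
      (j, i) ∈ [((2 : Fin 6), (3 : Fin 6)), (2, 4), (2, 5), (3, 4), (3, 5), (4, 5)] := by decide

variable {G : Type*} [Group G] [Finite G] {z : G}
  {Q : Subgroup (centralizer ({z} : Set G))} [Q.Normal] {V : Type*} [AddCommGroup V] [Module (ZMod 2) V]
  [DistribMulAction ((centralizer ({z} : Set G)) ⧸ Q) V] [Finite V] {q : QuadraticForm (ZMod 2) V} {π : ↥Q → V}
  {n : (centralizer ({z} : Set G)) ⧸ Q} {M : Subgroup ((centralizer ({z} : Set G)) ⧸ Q)} {φ : ↥M →* ↥H4}
  {s : V} {E : Subgroup ((centralizer ({z} : Set G)) ⧸ Q)} {D : AddSubgroup V}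
  {A : Subgroup G} {Ab : Subgroup ((centralizer ({z} : Set G)) ⧸ Q)}

/-- The vector of a point. -/
def vec (n : (centralizer ({z} : Set G)) ⧸ Q) (T : Fin 6 → V) (p : Fin 6 × Fin 4) : V :=
  ![0, T p.1, n • T p.1, n • n • T p.1] p.2

/-- A lift serving one coset of a line serves another. -/
def Share (π : ↥Q → V) (A : Subgroup G) (bb : Fin 6 → Fin 6 → G) (i j r : Fin 6) (x : V) : Prop :=
  ∀ u : ↥Q, π u = x → val u ∈ A → bb i j * val u ∈ Ns z A → bb i r * val u ∈ Ns z A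

/-- The lifts of the vectors on the lines. -/
structure LiftData (π : ↥Q → V) (n : (centralizer ({z} : Set G)) ⧸ Q) (A : Subgroup G) (T : Fin 6 → V)
    (bb : Fin 6 → Fin 6 → G) (kk : Fin 6 → V → ↥Q) : Prop where
  pi : ∀ i, ∀ x ∈ ln n (T i), π (kk i x) = x
  mem : ∀ i, ∀ x ∈ ln n (T i), val (kk i x) ∈ A
  ns : ∀ i, ∀ x ∈ ln n (T i), ∀ j, i ≠ j → bb i j * val (kk i x) ∈ Ns z A

namespace Ctx

variable (c : Ctx Q q π n M φ s E D A Ab)
include c

theorem vec_mem (T : Fin 6 → V) (p : Fin 6 × Fin 4) : vec n T p ∈ ln n (T p.1) := by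
  obtain ⟨i, a⟩ := p
  fin_cases a <;> simp [vec, ln]

theorem exists_vec {T : Fin 6 → V} {i : Fin 6} {x : V} (hx : x ∈ ln n (T i)) : ∃ a, vec n T (i, a) = x := by
  rcases hx with e | e | e | e
  exacts [⟨0, e.symm⟩, ⟨1, e.symm⟩, ⟨2, e.symm⟩, ⟨3, e.symm⟩]

variable {T : Fin 6 → V} {nt : centralizer ({z} : Set G)} (d : SixData n Ab s T nt)
include d

theorem vec_inj {i : Fin 6} {a b : Fin 4} (e : vec n T (i, a) = vec n T (i, b)) : a = b := by
  obtain ⟨h1, h2, h3, h4, h5⟩ := c.oth.n_move (c.T_ne d i)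
  fin_cases a <;> fin_cases b <;>
    simp [vec, c.T_ne d i, (c.T_ne d i).symm, h1, h1.symm, h2, h2.symm, h3, h3.symm, h4, h4.symm, h5, h5.symm] at e ⊢

theorem zero_ln (i : Fin 6) : (0 : V) ∈ ln n (T i) := Or.inl rfl

theorem span_meet {i j r : Fin 6} (hij : i ≠ j) (hir : i ≠ r) (hjr : j ≠ r) {x : V}
    (hi : x ∈ span2 n (T i) (T r)) (hj : x ∈ span2 n (T j) (T r)) : x ∈ ln n (T r) := by
  obtain ⟨⟨a, b⟩, ⟨ha, hb⟩, rfl⟩ := hi
  obtain ⟨⟨a', b'⟩, ⟨ha', hb'⟩, e⟩ := hj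
  replace e : a' + b' = a + b := e
  by_cases h0 : a = 0
  · subst h0
    show (0 : V) + b ∈ _
    rw [zero_add]
    exact hb
  exfalso
  have hmem : a ∈ span2 n (T j) (T r) := ⟨(a', b' + b), ⟨ha', c.oth.ln_add hb' hb⟩, by
    show a' + (b' + b) = a
    rw [← add_assoc, e, add_assoc, vadd_self, add_zero]⟩
  rcases c.span_nc d hjr (c.ln_nc (d.mem i) ha h0) hmem with h | h
  · exact hij (c.line_index d h0 ha h)
  · exact hir (c.line_index d h0 ha h)

theorem span_meet_le {i j a b : Fin 6} (hij : i ≠ j) (hbi : b ≠ i) (hbj : b ≠ j) :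
    (span2 n (T i) (T j) ∩ span2 n (T a) (T b)).ncard ≤ 4 := by
  classical
  rw [← c.oth.ln_ncard (c.T_ne d a)]
  have hdec : ∀ x ∈ span2 n (T i) (T j) ∩ span2 n (T a) (T b), ∃ y ∈ ln n (T a), x + y ∈ ln n (T b) := by
    rintro _ ⟨-, ⟨⟨y, w⟩, ⟨hy, hw⟩, rfl⟩⟩
    refine ⟨y, hy, ?_⟩
    show y + w + y ∈ _
    rw [add_comm y w, add_assoc, vadd_self, add_zero]
    exact hw
  choose! g hg1 hg2 using hdec
  refine Set.ncard_le_ncard_of_injOn g hg1 (fun x hx x' hx' e => eq_of_vadd (by_contra fun hne => ?_)) (Set.toFinite _)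
  have hb : x + x' ∈ ln n (T b) := by
    have h := c.oth.ln_add (hg2 x hx) (hg2 x' hx')
    rwa [e, add_add_add_comm, vadd_self, add_zero] at h
  obtain ⟨⟨p, r⟩, ⟨hp, hr⟩, he⟩ := hx.1
  obtain ⟨⟨p', r'⟩, ⟨hp', hr'⟩, he'⟩ := hx'.1
  have hs : x + x' ∈ span2 n (T i) (T j) := ⟨(p + p', r + r'), ⟨c.oth.ln_add hp hp', c.oth.ln_add hr hr'⟩, by
    rw [← he, ← he']; exact add_add_add_comm p p' r r'⟩
  rcases c.span_nc d hij (c.ln_nc (d.mem b) hb hne) hs with h | h
  · exact hbi (c.line_index d hne hb h)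
  · exact hbj (c.line_index d hne hb h)

variable {att : Fin 6 → Fin 6 → (centralizer ({z} : Set G)) ⧸ Q} {bb : Fin 6 → Fin 6 → G}
  (p : PairData Ab A T nt att bb)
include p

theorem span_rg {i j : Fin 6} (h : i ≠ j) : span2 n (T i) (T j) = ((rg (att i j) : AddSubgroup V) : Set V) :=
  c.rg_eq_span d (p.att_mem i j) (p.att_ne i j h) h (p.att_rg i j h).1 (p.att_rg i j h).2

theorem uniq_lift {i j : Fin 6} (h : i ≠ j) {u u' : ↥Q} (hu : val u ∈ A) (hu' : val u' ∈ A)
    (hN : bb i j * val u ∈ Ns z A) (hN' : bb i j * val u' ∈ Ns z A) (e : π u = π u') : u = u' :=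
  (c.coset_struct (p.att_ne i j h) (p.bb_mem i j h)).2.2.2 u u' hu hu' hN hN' e

theorem mem_coset {i j : Fin 6} (h : i ≠ j) {u : ↥Q} (hN : bb i j * val u ∈ Ns z A) :
    bb i j * val u ∈ cosetN Q A (att i j) :=
  ⟨hN, by rw [imK_mul (c.le (c.bb_A d p i j)) (u : centralizer ({z} : Set G)).2, imK_val, mul_one, c.bb_im d p]⟩

theorem lift_span {i j : Fin 6} (h : i ≠ j) {u : ↥Q} (hN : bb i j * val u ∈ Ns z A) :
    π u ∈ span2 n (T i) (T j) := by
  obtain ⟨w, -, hw, e⟩ := (c.coset_struct (p.att_ne i j h) (p.bb_mem i j h)).2.2.1 _ (c.mem_coset d p h hN)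
  rw [c.span_rg d p h, c.im_inj (c.bb_A d p i j) e]
  exact hw

/-- The same with a fixed element of the coset in place of the chosen one. -/
theorem lift_span' {i j : Fin 6} (h : i ≠ j) {a : G} (ha : a ∈ A) (hk : imK Q a = att i j)
    (hf : (nt : G) * a = a * nt) {u : ↥Q} (hN : a * val u ∈ Ns z A) : π u ∈ span2 n (T i) (T j) := by
  obtain ⟨z₀, hz₀, hz0⟩ := c.z_val
  rcases c.fixed_two d (c.bb_A d p i j) ha ((c.bb_im d p i j).trans hk.symm) (p.bb_fix i j) hf with e | e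
  · exact c.lift_span d p h (e ▸ hN)
  · have hN' : bb i j * val (z₀ * u) ∈ Ns z A := by
      rw [show val (z₀ * u) = val z₀ * val u from rfl, hz₀, ← mul_assoc, ← e]
      exact hN
    have := c.lift_span d p h hN'
    rwa [c.mdl.pi_mul, hz0, zero_add] at this

theorem share_move {w : centralizer ({z} : Set G)} (hwN : (w : G) ∈ Subgroup.normalizer (A : Set G))
    (hwt : w * nt = nt * w) {σ : Equiv.Perm (Fin 6)} (hwT : ∀ i, QuotientGroup.mk' Q w • T i ∈ ln n (T (σ i)))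
    {i j r : Fin 6} {x : V} (h : Share π A bb i j r x) :
    Share π A bb (σ i) (σ j) (σ r) (QuotientGroup.mk' Q w • x) := by
  intro u' hu hA hN
  obtain ⟨u, hu1, hu2⟩ := c.pi_conj w⁻¹ u'
  rw [hu, map_inv, inv_smul_smul] at hu2
  have hw' : ((w⁻¹ : centralizer ({z} : Set G)) : G) = (w : G)⁻¹ := rfl
  rw [hw'] at hu1
  have hconj : ∀ l, (w : G) * (bb i l * val u) * (w : G)⁻¹ = bb (σ i) (σ l) * val u' := fun l => by
    rw [← (c.equivariant d p hwN hwt hwT i l).2, hu1]; group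
  have hA' : val u ∈ A := hu1 ▸ c.conj_mem (inv_mem hwN) hA
  have h1 : bb i j * val u ∈ Ns z A := by
    have := c.Ns_conj (inv_mem hwN) hN
    rw [← hconj j] at this
    simpa [mul_assoc] using this
  rw [← hconj r]
  exact c.Ns_conj hwN (h u hu2 hA' h1)

theorem share_all {i j r : Fin 6} (hij : i ≠ j) (hir : i ≠ r) (hjr : j ≠ r) {x : V} (hx : x ∈ ln n (T i)) :
    Share π A bb i j r x := by
  classical
  rcases eq_or_ne x 0 with hx0 | hx0
  · intro u hu hA hN
    have e := c.uniq_lift d p hij (u := u) (u' := 1) hA (one_mem A) hN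
      (by simpa [val] using (p.bb_mem i j hij).1) (by rw [c.mdl.pi_one, hu, hx0])
    subst e
    simpa [val] using (p.bb_mem i r hir).1
  -- one triple sharing a lift
  obtain ⟨j₀, r₀, h1, h2, h3, hbase⟩ : ∃ j₀ r₀ : Fin 6, 0 ≠ j₀ ∧ 0 ≠ r₀ ∧ j₀ ≠ r₀ ∧ Share π A bb 0 j₀ r₀ (T 0) := by
    have hex : ∀ l : Fin 6, 0 ≠ l → ∃ u : ↥Q, π u = T 0 ∧ val u ∈ A ∧ bb 0 l * val u ∈ Ns z A := fun l hl =>
      (c.coset_struct (p.att_ne 0 l hl) (p.bb_mem 0 l hl)).2.1 _ (p.att_rg 0 l hl).1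
    obtain ⟨u, hu, huA, huN⟩ := hex 1 (by decide)
    obtain ⟨v, hv, hvA, hvN⟩ := hex 2 (by decide)
    obtain ⟨w, hw, hwA, hwN⟩ := hex 3 (by decide)
    have key : ∀ {a b : Fin 6} (ha : 0 ≠ a) (u v : ↥Q), π u = T 0 → val u ∈ A → bb 0 a * val u ∈ Ns z A →
        bb 0 b * val v ∈ Ns z A → val v = val u → Share π A bb 0 a b (T 0) := by
      intro a b ha u v hu huA huN hvN e u' hu' hA' hN'
      rw [c.uniq_lift d p ha hA' huA hN' huN (hu'.trans hu.symm), ← e]
      exact hvN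
    rcases c.mdl.pi_eq (x := u) (y := v) (hu.trans hv.symm) with e | e
    · exact ⟨1, 2, by decide, by decide, by decide, key (by decide) u v hu huA huN hvN e⟩
    rcases c.mdl.pi_eq (x := u) (y := w) (hu.trans hw.symm) with e' | e'
    · exact ⟨1, 3, by decide, by decide, by decide, key (by decide) u w hu huA huN hwN e'⟩
    · exact ⟨2, 3, by decide, by decide, by decide, key (by decide) v w hv hvA hvN hwN (e'.trans e.symm)⟩
  obtain ⟨τ₁, hτ₁, a0, a1, a2⟩ := exists_even_three h1 h2 h3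
  obtain ⟨τ₂, hτ₂, b0, b1, b2⟩ := exists_even_three hij hir hjr
  obtain ⟨w, hwN, -, hwt, hwT⟩ := c.exists_perm d (τ₂ * τ₁⁻¹) (mul_mem hτ₂ (inv_mem hτ₁))
  have hmoved := c.share_move d p hwN hwt hwT hbase
  have hy := hwT 0
  have e0 : (τ₂ * τ₁⁻¹) 0 = i := by conv_lhs => rw [← a0]; simp [b0]
  have e1 : (τ₂ * τ₁⁻¹) j₀ = j := by rw [← a1]; simp [b1]
  have e2 : (τ₂ * τ₁⁻¹) r₀ = r := by rw [← a2]; simp [b2]
  rw [e0, e1, e2] at hmoved
  rw [e0] at hy
  set y := QuotientGroup.mk' Q w • T 0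
  have hn : ∀ {x : V}, Share π A bb i j r x → Share π A bb i j r (n • x) := fun {x} h => by
    have := c.share_move d p (σ := 1) (c.nt_N d) rfl (fun l => by
      rw [d.lift]; exact Or.inr (Or.inr (Or.inl rfl))) h
    rwa [d.lift] at this
  have hy0 : y ≠ 0 := fun e => c.T_ne d 0 (MulAction.injective _ (e.trans (smul_zero _).symm))
  have hTy : T i ∈ ln n y := c.oth.ln_disjoint hy hy0 (Or.inr (Or.inl rfl))
  have hxy : x ∈ ln n y := by
    rcases hx with e | e | e | e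
    exacts [Or.inl e, e ▸ hTy, e ▸ c.oth.ln_smul hTy, e ▸ c.oth.ln_smul (c.oth.ln_smul hTy)]
  rcases hxy with e | e | e | e
  · exact absurd e hx0
  · exact e ▸ hmoved
  · exact e ▸ hn hmoved
  · exact e ▸ hn (hn hmoved)

theorem exists_lifts : ∃ kk, LiftData π n A T bb kk := by
  classical
  have hex : ∀ i : Fin 6, ∀ x ∈ ln n (T i), ∃ u : ↥Q, π u = x ∧ val u ∈ A ∧ ∀ j, i ≠ j → bb i j * val u ∈ Ns z A := by
    intro i x hx
    obtain ⟨l, hl⟩ := (by decide : ∀ i : Fin 6, ∃ l, i ≠ l) i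
    have hmem : x ∈ (rg (att i l) : AddSubgroup V) :=
      c.oth.ln_subset (fun _ => c.oth.rg_n (p.att_mem i l)) (p.att_rg i l hl).1 hx
    obtain ⟨u, hu, huA, huN⟩ := (c.coset_struct (p.att_ne i l hl) (p.bb_mem i l hl)).2.1 x hmem
    refine ⟨u, hu, huA, fun j hj => ?_⟩
    by_cases hjl : l = j
    · exact hjl ▸ huN
    · exact c.share_all d p hl hj hjl hx u hu huA huN
  choose g h1 h2 h3 using hex
  refine ⟨fun i x => if h : x ∈ ln n (T i) then g i x h else 1,
    fun i x hx => ?_, fun i x hx => ?_, fun i x hx => ?_⟩ <;> simp only [dif_pos hx]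
  · exact h1 i x hx
  · exact h2 i x hx
  · exact h3 i x hx

/-- Number of elements over a coset with vectors in a given set. -/
theorem coset_bound {i j : Fin 6} (h : i ≠ j) {S : Set G} {X : Set V} (hS : S ⊆ cosetN Q A (att i j))
    (hX : ∀ u : ↥Q, val u ∈ A → bb i j * val u ∈ S → π u ∈ X) : S.ncard ≤ X.ncard := by
  classical
  obtain ⟨-, -, hall, -⟩ := c.coset_struct (p.att_ne i j h) (p.bb_mem i j h)
  choose! g hgA _hgr hge using hall
  refine Set.ncard_le_ncard_of_injOn (fun e => π (g e))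
    (fun e he => hX _ (hgA e (hS he)) (by rw [← hge e (hS he)]; exact he)) (fun e he e' he' eq => ?_) (Set.toFinite _)
  rw [hge e (hS he), hge e' (hS he'), c.uniq_lift d p h (hgA e (hS he)) (hgA e' (hS he'))
    ((hge e (hS he)) ▸ (hS he).1) ((hge e' (hS he')) ▸ (hS he').1) eq]

variable {kk : Fin 6 → V → ↥Q} (l : LiftData π n A T bb kk)
include l

theorem bb_comm (i j i' j' : Fin 6) : bb i j * bb i' j' = bb i' j' * bb i j :=
  c.comm (c.bb_A d p i j) (c.bb_A d p i' j')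

theorem prod_fix (i j i' j' : Fin 6) : (nt : G) * (bb i j * bb i' j') = bb i j * bb i' j' * nt := by
  rw [← mul_assoc, p.bb_fix, mul_assoc, p.bb_fix, ← mul_assoc]

theorem prod_im (i j i' j' : Fin 6) : imK Q (bb i j * bb i' j') = att i j * att i' j' := by
  rw [imK_mul (c.le (c.bb_A d p i j)) (c.le (c.bb_A d p i' j')), c.bb_im d p, c.bb_im d p]

/-- The law of the fixed elements. -/
theorem bb_law {i j r : Fin 6} (hij : i ≠ j) (hir : i ≠ r) (hjr : j ≠ r) : bb i j * bb i r = bb j r := by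
  classical
  have htwo : ∀ {i j r : Fin 6}, i ≠ j → i ≠ r → j ≠ r →
      bb i j * bb i r = bb j r ∨ bb i j * bb i r = bb j r * z := fun {i j r} hij hir hjr =>
    c.fixed_two d (c.bb_A d p j r) (mul_mem (c.bb_A d p i j) (c.bb_A d p i r))
      (by rw [c.bb_im d p, c.prod_im d p l, c.att_law d p hij hir hjr]) (p.bb_fix j r) (c.prod_fix d p l i j i r)
  rcases htwo hij hir hjr with e | e
  · exact e
  exfalso
  have hz : ∀ {a b r' : Fin 6}, a ≠ b → a ≠ r' → b ≠ r' → bb a b * bb a r' = bb b r' * z := by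
    intro a b r' hab har hbr
    obtain ⟨τ₁, hτ₁, a0, a1, a2⟩ := exists_even_three hij hir hjr
    obtain ⟨τ₂, hτ₂, b0, b1, b2⟩ := exists_even_three hab har hbr
    obtain ⟨w, hwN, -, hwt, hwT⟩ := c.exists_perm d (τ₂ * τ₁⁻¹) (mul_mem hτ₂ (inv_mem hτ₁))
    have ei : (τ₂ * τ₁⁻¹) i = a := by rw [← a0]; simp [b0]
    have ej : (τ₂ * τ₁⁻¹) j = b := by rw [← a1]; simp [b1]
    have er : (τ₂ * τ₁⁻¹) r = r' := by rw [← a2]; simp [b2]
    have h1 := (c.equivariant d p hwN hwt hwT i j).2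
    have h2 := (c.equivariant d p hwN hwt hwT i r).2
    have h3 := (c.equivariant d p hwN hwt hwT j r).2
    rw [ei, ej] at h1
    rw [ei, er] at h2
    rw [ej, er] at h3
    have hwz : (w : G) * z * (w : G)⁻¹ = z := by rw [c.comm_z w, mul_inv_cancel_right]
    rw [← h1, ← h2, ← h3]
    calc (w : G) * bb i j * (w : G)⁻¹ * ((w : G) * bb i r * (w : G)⁻¹) = (w : G) * (bb i j * bb i r) * (w : G)⁻¹ := by
          group
      _ = (w : G) * bb j r * (w : G)⁻¹ * ((w : G) * z * (w : G)⁻¹) := by rw [e]; group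
      _ = _ := by rw [hwz]
  -- the neighbours of the fixed element of the first coset
  obtain ⟨z₀, hz₀, hz0⟩ := c.z_val
  set dd := bb 0 1 with hdd
  have h01 : (0 : Fin 6) ≠ 1 := by decide
  have hdN : dd ∈ Ns z A := (p.bb_mem 0 1 h01).1
  set X : Set V := (ln n (T 0) \ {0}) ∪ (ln n (T 1) \ {0})
  have hX : X.ncard ≤ 6 := by
    have h3 : ∀ i, (ln n (T i) \ {0}).ncard = 3 := fun i => by
      rw [Set.ncard_sdiff (Set.singleton_subset_iff.2 (c.zero_ln d i)), c.oth.ln_ncard (c.T_ne d i),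
        Set.ncard_singleton]
    have := Set.ncard_union_le (ln n (T 0) \ {0}) (ln n (T 1) \ {0})
    rw [h3, h3] at this
    exact this
  have hXmem : ∀ u : ↥Q, val u ∈ Ns z A → π u ∈ span2 n (T 0) (T 1) → π u ∈ X := fun u hu hs => by
    have hnc := c.val_nc.1 hu
    rcases c.span_nc d h01 hnc hs with h | h
    · exact Or.inl ⟨h, hnc.2.1⟩
    · exact Or.inr ⟨h, hnc.2.1⟩
  have hdd1 : ∀ x : G, dd * (dd * x) = x := fun x => by rw [← mul_assoc, c.sq hdN.1, one_mul]
  set I := {e | e ∈ nb z A dd ∧ imK Q e = 1}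
  set J := {e | e ∈ nb z A dd ∧ imK Q e = att 0 1}
  set S := fun i j : Fin 6 => {e | e ∈ nb z A dd ∧ imK Q e = att i j}
  have hI : I.ncard ≤ 6 := by
    rw [← Set.ncard_image_of_injective I (mul_right_injective dd)]
    refine le_trans (c.coset_bound d p h01 ?_ fun u huA hu => ?_) hX
    · rintro _ ⟨e, he, rfl⟩
      exact ⟨he.1.2, by
        show imK Q (dd * e) = _
        rw [imK_mul (c.le hdN.1) (c.le he.1.1.1), he.2, mul_one, c.bb_im d p]⟩
    · obtain ⟨e, he, he'⟩ := hu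
      replace he' : dd * e = dd * val u := he'
      exact hXmem u (mul_left_cancel he' ▸ he.1.1) (c.lift_span d p h01 (he' ▸ he.1.2))
  have hJ : J.ncard ≤ 6 := by
    refine le_trans (c.coset_bound d p h01 (fun e he => ⟨he.1.1, he.2⟩) fun u huA hu => ?_) hX
    exact hXmem u (hdd1 (val u) ▸ hu.1.2) (c.lift_span d p h01 hu.1.1)
  have htri : ∀ a b r : Fin 6, a ≠ b → a ≠ r → b ≠ r → dd = bb a b → ∀ e ∈ nb z A dd, imK Q e ≠ att a r := by
    intro a b r hab har hbr hd e he hk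
    obtain ⟨u, huA, -, rfl⟩ := (c.coset_struct (p.att_ne a r har) (p.bb_mem a r har)).2.2.1 e ⟨he.1, hk⟩
    have hw : bb b r * val (z₀ * u) ∈ Ns z A := by
      rw [show val (z₀ * u) = val z₀ * val u from rfl, hz₀, ← mul_assoc, ← hz hab har hbr, mul_assoc, ← hd]
      exact he.2
    have hpi : π (z₀ * u) = π u := by rw [c.mdl.pi_mul, hz0, zero_add]
    have hx : π u ∈ ln n (T r) :=
      c.span_meet d hab har hbr (c.lift_span d p har he.1) (hpi ▸ c.lift_span d p hbr hw)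
    have hk1 : u = kk r (π u) := c.uniq_lift d p har huA (l.mem r _ hx) he.1
      (by rw [← c.bb_symm d p a r]; exact l.ns r _ hx a har.symm) (l.pi r _ hx).symm
    have hk2 : z₀ * u = kk r (π u) := c.uniq_lift d p hbr
      (show val z₀ * val u ∈ A from mul_mem (hz₀.symm ▸ c.z_mem) huA) (l.mem r _ hx) hw
      (by rw [← c.bb_symm d p b r]; exact l.ns r _ hx b hbr.symm) (hpi.trans (l.pi r _ hx).symm)
    have : z₀ = 1 := mul_eq_right.1 (hk2.trans hk1.symm)
    exact c.z_ne (by rw [← hz₀, this]; rfl)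
  have hsyn : ∀ i j : Fin 6, i ≠ j → i ≠ 0 → i ≠ 1 → j ≠ 0 → j ≠ 1 → (S i j).ncard ≤ 4 := by
    intro i j hij hi0 hi1 hj0 hj1
    set k := att 0 1 * att i j with hk
    have hk1 : k ≠ 1 := fun e => by
      have h := inv_eq_of_mul_eq_one_right e
      rw [c.oth.self_inv (p.att_mem 0 1)] at h
      rcases c.att_inj d p h01 hij h with ⟨x, -⟩ | ⟨x, -⟩
      · exact hi0 x
      · exact hi1 x
    obtain ⟨a, b, hab, hkab⟩ := p.att_cover k (mul_mem (p.att_mem _ _) (p.att_mem _ _)) hk1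
    have key : ∀ i j a b : Fin 6, i ≠ j → a ≠ b → j ≠ 0 → j ≠ 1 → att 0 1 * att i j = att a b → a ≠ i := by
      intro i j a b hij hab hj0 hj1 e hai
      subst hai
      by_cases hbj : b = j
      · subst hbj
        exact p.att_ne 0 1 h01 (mul_eq_right.1 e)
      have e' : att 0 1 = att b j := by
        rw [← c.att_law d p hab hij hbj, ← e, mul_assoc, ← pow_two, c.oth.elem.2 _ (p.att_mem a j), mul_one]
      rcases c.att_inj d p (i := 0) (j := 1) h01 hbj e' with ⟨-, x⟩ | ⟨-, x⟩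
      · exact hj1 x
      · exact hj0 x
    have hbi : b ≠ i := key i j b a hij hab.symm hj0 hj1 (by rw [c.att_symm d p a b]; exact hkab)
    have hbj : b ≠ j := key j i b a hij.symm hab.symm hi0 hi1 (by
      rw [c.att_symm d p a b, c.att_symm d p i j]; exact hkab)
    refine le_trans (c.coset_bound d p hij (fun e he => ⟨he.1.1, he.2⟩) fun u huA hu => ?_)
      (c.span_meet_le d (a := a) hij hbi hbj)
    refine ⟨c.lift_span d p hij hu.1.1, c.lift_span' d p hab (mul_mem hdN.1 (c.bb_A d p i j))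
      (by rw [c.prod_im d p l]; exact hkab) (c.prod_fix d p l 0 1 i j) ?_⟩
    rw [mul_assoc]
    exact hu.1.2
  have hcov : nb z A dd ⊆ I ∪ J ∪ S 2 3 ∪ S 2 4 ∪ S 2 5 ∪ S 3 4 ∪ S 3 5 ∪ S 4 5 := by
    intro e he
    by_cases h1 : imK Q e = 1
    · simp [I, he, h1]
    obtain ⟨a, b, hab, hk⟩ := p.att_cover _ (c.imK_mem he.1.1) h1
    have hd' : dd = bb 1 0 := (c.bb_symm d p 0 1).symm
    have ha : ∀ a b : Fin 6, a ≠ b → imK Q e = att a b → (a = 0 ∨ a = 1) → imK Q e = att 0 1 := by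
      intro a b hab hk ha
      by_cases hb : b = 0 ∨ b = 1
      · rcases ha with rfl | rfl <;> rcases hb with rfl | rfl
        · exact absurd rfl hab
        · exact hk
        · rw [hk, c.att_symm d p 0 1]
        · exact absurd rfl hab
      · rw [not_or] at hb
        rcases ha with rfl | rfl
        · exact absurd hk (htri 0 1 b h01 hab (Ne.symm hb.2) rfl e he)
        · exact absurd hk (htri 1 0 b h01.symm hab (Ne.symm hb.1) hd' e he)
    by_cases ha' : a = 0 ∨ a = 1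
    · simp [J, he, ha a b hab hk ha']
    by_cases hb' : b = 0 ∨ b = 1
    · simp [J, he, ha b a hab.symm (by rw [hk, c.att_symm d p a b]) hb']
    rw [not_or] at ha' hb'
    rcases six_pairs a b hab ha'.1 ha'.2 hb'.1 hb'.2 with h | h <;>
      simp only [List.mem_cons, List.not_mem_nil, or_false, Prod.mk.injEq] at h <;>
      rcases h with ⟨rfl, rfl⟩ | ⟨rfl, rfl⟩ | ⟨rfl, rfl⟩ | ⟨rfl, rfl⟩ | ⟨rfl, rfl⟩ | ⟨rfl, rfl⟩ <;>
      simp [S, he, hk, c.att_symm d p 2 3, c.att_symm d p 2 4, c.att_symm d p 2 5, c.att_symm d p 3 4,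
        c.att_symm d p 3 5, c.att_symm d p 4 5]
  have h := Set.ncard_le_ncard hcov (Set.toFinite _)
  have u1 := Set.ncard_union_le I J
  have u2 := Set.ncard_union_le (I ∪ J) (S 2 3)
  have u3 := Set.ncard_union_le (I ∪ J ∪ S 2 3) (S 2 4)
  have u4 := Set.ncard_union_le (I ∪ J ∪ S 2 3 ∪ S 2 4) (S 2 5)
  have u5 := Set.ncard_union_le (I ∪ J ∪ S 2 3 ∪ S 2 4 ∪ S 2 5) (S 3 4)
  have u6 := Set.ncard_union_le (I ∪ J ∪ S 2 3 ∪ S 2 4 ∪ S 2 5 ∪ S 3 4) (S 3 5)
  have u7 := Set.ncard_union_le (I ∪ J ∪ S 2 3 ∪ S 2 4 ∪ S 2 5 ∪ S 3 4 ∪ S 3 5) (S 4 5)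
  have s1 := hsyn 2 3 (by decide) (by decide) (by decide) (by decide) (by decide)
  have s2 := hsyn 2 4 (by decide) (by decide) (by decide) (by decide) (by decide)
  have s3 := hsyn 2 5 (by decide) (by decide) (by decide) (by decide) (by decide)
  have s4 := hsyn 3 4 (by decide) (by decide) (by decide) (by decide) (by decide)
  have s5 := hsyn 3 5 (by decide) (by decide) (by decide) (by decide) (by decide)
  have s6 := hsyn 4 5 (by decide) (by decide) (by decide) (by decide) (by decide)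
  rw [c.degree hdN] at h
  omega

theorem cross {i j : Fin 6} (hij : i ≠ j) {v w : V} (hv : v ∈ ln n (T i)) (hw : w ∈ ln n (T j)) :
    bb i j * val (kk i v) * val (kk j w) ∈ Ns z A := by
  obtain ⟨r, hri, hrj⟩ := (by decide : ∀ a b : Fin 6, ∃ r, r ≠ a ∧ r ≠ b) i j
  have hlaw : bb j r * bb i r = bb i j := by
    rw [← c.bb_law d p l (i := r) (j := j) (r := i) hrj hri hij.symm |>.trans (c.bb_symm d p i j),
      c.bb_symm d p j r, c.bb_symm d p i r]
  have hf : bb j r * val (kk j w) ∈ Ns z A := l.ns j w hw r hrj.symm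
  -- the element is a conjugate of the fixed one
  obtain ⟨y, hy⟩ := c.oth.ln_subset (fun _ => c.oth.rg_n (p.att_mem j r)) (p.att_rg j r hrj.symm).1 hw
  obtain ⟨b, hb⟩ := c.mdl.surj y
  have hbN := c.q_mem_N b
  obtain ⟨u, huA, hu, hpu⟩ := c.comm_q (c.bb_A d p j r) b
  rw [← imK_eq, c.bb_im d p, hb] at hpu
  have hu' : val b * bb j r * (val b)⁻¹ = bb j r * val (kk j w) := by
    rw [hu, c.uniq_lift d p hrj.symm huA (l.mem j w hw) (hu ▸ c.Ns_conj hbN (p.bb_mem j r hrj.symm).1) hf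
      ((hpu.trans hy).trans (l.pi j w hw).symm)]
  obtain ⟨u₀, hu₀A, hu₀, -⟩ := c.comm_q (c.bb_A d p i r) b
  have h0ir : π u₀ ∈ span2 n (T i) (T r) :=
    c.lift_span d p hri.symm (hu₀ ▸ c.Ns_conj hbN (p.bb_mem i r hri.symm).1)
  have h0ij : π (kk j w) + π u₀ ∈ span2 n (T i) (T j) := by
    rw [← c.mdl.pi_mul]
    refine c.lift_span d p hij ?_
    have := c.Ns_conj hbN (p.bb_mem i j hij).1
    rw [← hlaw, show val b * (bb j r * bb i r) * (val b)⁻¹ =
      (val b * bb j r * (val b)⁻¹) * (val b * bb i r * (val b)⁻¹) by group, hu', hu₀,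
      mul_assoc, ← mul_assoc (val (kk j w)), c.comm (l.mem j w hw) (c.bb_A d p i r), mul_assoc (bb i r),
      ← mul_assoc (bb j r), hlaw] at this
    exact this
  have h0 : π u₀ ∈ ln n (T i) := by
    refine c.span_meet d (i := j) (j := r) (r := i) hrj.symm hij.symm hri ?_ ?_
    · rw [l.pi j w hw] at h0ij
      obtain ⟨⟨x, y'⟩, ⟨hx, hy'⟩, e⟩ := h0ij
      refine ⟨(y' + w, x), ⟨c.oth.ln_add hy' hw, hx⟩, ?_⟩
      show y' + w + x = π u₀
      rw [← add_left_cancel_iff (a := w), ← show x + y' = w + π u₀ from e]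
      rw [show w + (y' + w + x) = x + y' + (w + w) by abel, vadd_self, add_zero]
    · obtain ⟨⟨x, y'⟩, ⟨hx, hy'⟩, e⟩ := h0ir
      exact ⟨(y', x), ⟨hy', hx⟩, (add_comm y' x).trans e⟩
  set v' := π u₀ + v with hv'def
  have hv' : v' ∈ ln n (T i) := c.oth.ln_add h0 hv
  obtain ⟨k', hk', hpk'⟩ := c.pi_conj (b : centralizer ({z} : Set G)) (kk i v')
  rw [show QuotientGroup.mk' Q (b : centralizer ({z} : Set G)) = 1 from (QuotientGroup.eq_one_iff _).2 b.2,
    one_smul, l.pi i v' hv'] at hpk'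
  replace hk' : val k' = val b * val (kk i v') * (val b)⁻¹ := hk'
  have hk'A : val k' ∈ A := hk' ▸ c.conj_mem hbN (l.mem i v' hv')
  have hprod : val b * (bb i r * val (kk i v')) * (val b)⁻¹ = bb i r * val (u₀ * k') := by
    rw [show val (u₀ * k') = val u₀ * val k' from rfl, hk', ← mul_assoc (bb i r), ← hu₀]; group
  have hkk : u₀ * k' = kk i v := c.uniq_lift d p hri.symm (show val u₀ * val k' ∈ A from mul_mem hu₀A hk'A)
    (l.mem i v hv) (hprod ▸ c.Ns_conj hbN (l.ns i v' hv' r hri.symm)) (l.ns i v hv r hri.symm)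
    (by rw [c.mdl.pi_mul, hpk', l.pi i v hv, hv'def, ← add_assoc, vadd_self, zero_add])
  rw [hkk] at hprod
  have hres := c.Ns_conj hbN (l.ns i v' hv' j hij)
  rw [← hlaw, show val b * (bb j r * bb i r * val (kk i v')) * (val b)⁻¹ =
    (val b * bb j r * (val b)⁻¹) * (val b * (bb i r * val (kk i v')) * (val b)⁻¹) by group, hu', hprod] at hres
  have e : bb i j * val (kk i v) * val (kk j w) = bb j r * val (kk j w) * (bb i r * val (kk i v)) := by
    rw [mul_assoc, c.comm (l.mem i v hv) (l.mem j w hw), ← hlaw, mul_assoc, mul_assoc (bb j r),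
      ← mul_assoc (bb i r), c.comm (c.bb_A d p i r) (l.mem j w hw), mul_assoc (val (kk j w))]
  rw [e]
  exact hres

theorem kk_zero (i : Fin 6) : val (kk i 0) = 1 := by
  obtain ⟨j, hj⟩ := (by decide : ∀ i : Fin 6, ∃ l, i ≠ l) i
  rw [c.uniq_lift d p hj (l.mem i 0 (c.zero_ln d i)) (u' := 1) (one_mem A) (l.ns i 0 (c.zero_ln d i) j hj)
    (by simpa [val] using (p.bb_mem i j hj).1) (by rw [l.pi i 0 (c.zero_ln d i), c.mdl.pi_one])]
  rfl

theorem inner_law {i : Fin 6} {v w : V} (hv : v ∈ ln n (T i)) (hw : w ∈ ln n (T i)) (hv0 : v ≠ 0) (hw0 : w ≠ 0)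
    (hvw : v ≠ w) : val (kk i v) * val (kk i w) * val (kk i (v + w)) = z := by
  classical
  have hs := c.oth.ln_add hv hw
  have hpi : π (kk i v * kk i w * kk i (v + w)) = 0 := by
    rw [c.mdl.pi_mul, c.mdl.pi_mul, l.pi i v hv, l.pi i w hw, l.pi i _ hs, vadd_self]
  rcases (c.mdl.ker _).1 hpi with e | e
  swap
  · exact e
  exfalso
  replace e : val (kk i v) * val (kk i w) * val (kk i (v + w)) = 1 := e
  have hfour : ∀ a ∈ ln n (T i), a = 0 ∨ a = v ∨ a = w ∨ a = v + w := by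
    intro a ha
    by_contra hne
    simp only [not_or] at hne
    have hsub : ({a, 0, v, w, v + w} : Set V) ⊆ ln n (T i) := by
      rintro x (rfl | rfl | rfl | rfl | rfl)
      exacts [ha, c.zero_ln d i, hv, hw, hs]
    have h := Set.ncard_le_ncard hsub (Set.toFinite _)
    have hvw0 : v + w ≠ 0 := fun e => hvw (eq_of_vadd e)
    rw [c.oth.ln_ncard (c.T_ne d i), Set.ncard_insert_of_notMem, Set.ncard_insert_of_notMem,
      Set.ncard_insert_of_notMem, Set.ncard_pair] at h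
    · omega
    · exact fun e => hv0 (add_eq_right.1 e.symm)
    · simp [hvw, hw0, Ne.symm hw0]
    · simp [hv0, hw0, Ne.symm hv0, Ne.symm hw0, Ne.symm hvw0]
    · simp [hne]
  have hmulA : ∀ {a b : G}, a ∈ A → b ∈ A → a * b = 1 → a = b := fun ha hb h =>
    (eq_inv_of_mul_eq_one_left h).trans (c.inv hb)
  have hvA := l.mem i v hv
  have hwA := l.mem i w hw
  have hsA := l.mem i _ hs
  have hhom : ∀ a ∈ ln n (T i), val (kk i v) * val (kk i a) = val (kk i (v + a)) := by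
    intro a ha
    rcases hfour a ha with rfl | rfl | rfl | rfl
    · rw [c.kk_zero d p l, mul_one, add_zero]
    · rw [c.sq hvA, vadd_self, c.kk_zero d p l]
    · exact hmulA (mul_mem hvA hwA) hsA e
    · rw [← add_assoc, vadd_self, zero_add]
      have h := hmulA (mul_mem hvA hwA) hsA e
      rw [← h, ← mul_assoc, c.sq hvA, one_mul]
  obtain ⟨j, hj⟩ := (by decide : ∀ i : Fin 6, ∃ l, i ≠ l) i
  have huN : val (kk i v) ∈ Ns z A := c.val_nc.2 (by rw [l.pi i v hv]; exact c.ln_nc (d.mem i) hv hv0)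
  have h8 := c.coset_half d (p.att_mem i j) (p.att_ne i j hj) huN
    (by rw [l.pi i v hv]; exact c.oth.ln_subset (fun _ => c.oth.rg_n (p.att_mem i j)) (p.att_rg i j hj).1 hv)
  have hall : {e : G | e ∈ cosetN Q A (att i j) ∧ val (kk i v) * e ∈ Ns z A} = cosetN Q A (att i j) := by
    refine Set.Subset.antisymm (fun x hx => hx.1) fun x hx => ⟨hx, ?_⟩
    obtain ⟨u, huA, -, rfl⟩ := (c.coset_struct (p.att_ne i j hj) (p.bb_mem i j hj)).2.2.1 x hx
    obtain ⟨⟨a, b⟩, ⟨ha, hb⟩, hab⟩ := c.lift_span d p hj hx.1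
    have hu : u = kk i a * kk j b := c.uniq_lift d p hj huA
      (show val (kk i a) * val (kk j b) ∈ A from mul_mem (l.mem i a ha) (l.mem j b hb)) hx.1
      (by
        show bb i j * (val (kk i a) * val (kk j b)) ∈ _
        rw [← mul_assoc]; exact c.cross d p l hj ha hb)
      (by rw [c.mdl.pi_mul, l.pi i a ha, l.pi j b hb]; exact hab.symm)
    rw [hu, show val (kk i a * kk j b) = val (kk i a) * val (kk j b) from rfl, ← mul_assoc,
      c.comm hvA (c.bb_A d p i j), mul_assoc, ← mul_assoc (val (kk i v)), hhom a ha, ← mul_assoc]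
    exact c.cross d p l hj (c.oth.ln_add hv ha) hb
  rw [hall, c.cosetN_card (p.att_mem i j) (p.att_ne i j hj)] at h8
  omega

end Ctx

/-- The 276 elements are labelled by pairs. -/
theorem Ctx.exists_labelling (c : Ctx Q q π n M φ s E D A Ab) :
    ∃ f : Fin 6 × Fin 4 → G, (∀ x, f x ∈ A) ∧ (∀ a b, a ≠ b → f a * f b ∈ Ns z A) ∧
      ∀ x ∈ Ns z A, ∃ a b, a ≠ b ∧ f a * f b = x := by
  classical
  obtain ⟨T, nt, d⟩ := c.exists_six
  obtain ⟨att, bb, p⟩ := c.exists_pairs d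
  obtain ⟨kk, l⟩ := c.exists_lifts d p
  let k : Fin 6 × Fin 4 → G := fun x => val (kk x.1 (vec n T x))
  have hkA : ∀ x, k x ∈ A := fun x => l.mem _ _ (c.vec_mem T x)
  have hb0 : ∀ i j : Fin 6, i ≠ j → bb 0 i * bb 0 j = bb i j := by
    intro i j hij
    by_cases hi : i = 0
    · rw [hi, p.bb_self, one_mul]
    by_cases hj : j = 0
    · rw [hj, p.bb_self, mul_one, c.bb_symm d p i 0]
    exact c.bb_law d p l (Ne.symm hi) (Ne.symm hj) hij
  have hmul : ∀ x y : Fin 6 × Fin 4, bb 0 x.1 * k x * (bb 0 y.1 * k y) = bb 0 x.1 * bb 0 y.1 * k x * k y := by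
    intro x y
    rw [mul_assoc (bb 0 x.1), ← mul_assoc (k x), c.comm (hkA x) (c.bb_A d p 0 y.1)]
    simp only [mul_assoc]
  refine ⟨fun x => bb 0 x.1 * k x, fun x => mul_mem (c.bb_A d p 0 _) (hkA x), fun x y hxy => ?_, fun x hx => ?_⟩
  · show bb 0 x.1 * k x * (bb 0 y.1 * k y) ∈ _
    rw [hmul]
    by_cases hij : x.1 = y.1
    · rw [← hij, c.sq (c.bb_A d p 0 x.1), one_mul]
      have hy : vec n T y ∈ ln n (T x.1) := hij ▸ c.vec_mem T y
      have hne : vec n T x + vec n T y ≠ 0 := fun e => hxy (by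
        obtain ⟨i, a⟩ := x
        obtain ⟨j, b⟩ := y
        obtain rfl : i = j := hij
        rw [c.vec_inj d (eq_of_vadd e)])
      show val (kk x.1 (vec n T x) * kk y.1 (vec n T y)) ∈ _
      refine c.val_nc.2 ?_
      rw [c.mdl.pi_mul, l.pi _ _ (c.vec_mem T x), l.pi _ _ (c.vec_mem T y)]
      exact c.ln_nc (d.mem x.1) (c.oth.ln_add (c.vec_mem T x) hy) hne
    · rw [hb0 _ _ hij]
      exact c.cross d p l hij (c.vec_mem T x) (c.vec_mem T y)
  · by_cases hQ : ∃ u : ↥Q, val u = x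
    · obtain ⟨u, rfl⟩ := hQ
      have hnc := c.val_nc.1 hx
      obtain ⟨i, hi⟩ := d.cover _ hnc
      rcases c.mdl.pi_eq (x := kk i (π u)) (y := u) (l.pi i _ hi) with e | e
      · obtain ⟨a, ha⟩ := c.exists_vec hi
        refine ⟨(i, 0), (i, a), fun e' => ?_, ?_⟩
        · obtain rfl : (0 : Fin 4) = a := congrArg Prod.snd e'
          exact hnc.2.1 ha.symm
        · show bb 0 i * k (i, 0) * (bb 0 i * k (i, a)) = _
          refine (hmul (i, 0) (i, a)).trans ?_
          show bb 0 i * bb 0 i * val (kk i 0) * val (kk i (vec n T (i, a))) = _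
          rw [c.sq (c.bb_A d p 0 i), one_mul, ha, c.kk_zero d p l, one_mul]
          exact (show val u = val (kk i (π u)) from e).symm
      · set v := π u
        obtain ⟨hnv, -, -, hnv0, -⟩ := c.oth.n_move hnc.2.1
        have hw := c.oth.ln_smul hi
        obtain ⟨a, ha⟩ := c.exists_vec hw
        obtain ⟨b, hb⟩ := c.exists_vec (c.oth.ln_add hi hw)
        refine ⟨(i, a), (i, b), fun e' => ?_, ?_⟩
        · rw [e', hb] at ha
          exact hnc.2.1 (add_eq_right.1 ha)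
        · show bb 0 i * k (i, a) * (bb 0 i * k (i, b)) = _
          refine (hmul (i, a) (i, b)).trans ?_
          show bb 0 i * bb 0 i * val (kk i (vec n T (i, a))) * val (kk i (vec n T (i, b))) = _
          rw [c.sq (c.bb_A d p 0 i), one_mul, ha, hb]
          refine Eq.trans ?_ ((congrArg (val (kk i v) * ·) (c.inner_law d p l hi hw hnc.2.1 hnv0 hnv.symm)).trans
            (show val u = val (kk i v) * z from e).symm)
          show _ = val (kk i v) * (val (kk i v) * val (kk i (n • v)) * val (kk i (v + n • v)))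
          rw [← mul_assoc, ← mul_assoc, c.sq (l.mem i v hi), one_mul]
    · have hk1 : imK Q x ≠ 1 := fun e => hQ ((c.imK_eq_one hx.1).1 e)
      obtain ⟨i, j, hij, hk⟩ := p.att_cover _ (c.imK_mem hx.1) hk1
      obtain ⟨u, huA, -, rfl⟩ := (c.coset_struct (p.att_ne i j hij) (p.bb_mem i j hij)).2.2.1 x ⟨hx, hk⟩
      obtain ⟨⟨va, vb⟩, ⟨ha, hb⟩, hab⟩ := c.lift_span d p hij hx
      obtain ⟨a, rfl⟩ := c.exists_vec ha
      obtain ⟨b, rfl⟩ := c.exists_vec hb
      refine ⟨(i, a), (j, b), fun e => hij (congrArg Prod.fst e), ?_⟩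
      show bb 0 i * k (i, a) * (bb 0 j * k (j, b)) = _
      refine (hmul (i, a) (j, b)).trans ?_
      show bb 0 i * bb 0 j * k (i, a) * k (j, b) = _
      rw [hb0 i j hij, mul_assoc]
      show bb i j * val (kk i (vec n T (i, a)) * kk j (vec n T (j, b))) = _
      rw [c.uniq_lift d p hij huA (u' := kk i (vec n T (i, a)) * kk j (vec n T (j, b)))
        (mul_mem (l.mem i _ ha) (l.mem j _ hb)) hx (by
          show bb i j * (val (kk i (vec n T (i, a))) * val (kk j (vec n T (j, b)))) ∈ _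
          rw [← mul_assoc]; exact c.cross d p l hij ha hb)
        (by rw [c.mdl.pi_mul, l.pi i _ ha, l.pi j _ hb]; exact hab.symm)]

end CfsgLib.LargeFischer.Thompson
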