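import Cfsg.Agent.Lib.Golay.Uniq24
import Cfsg.Agent.Lib.Golay.Uniq23
import Cfsg.Agent.Lib.Golay.M24Sub

/-!
# An elementary group of order `2^11` with 276 elements labelled by the pairs of 24 points

The blocks are the sets of eight points with trivial product; they form a Steiner system, and the automorphisms
preserving the 276 elements act on the points as automorphisms of it.
-/

set_option autoImplicit false
set_option linter.unusedSectionVars false

namespace CfsgLib.LargeFischer.Thompson

open Cfsg (GolayPt octads IsSteinerSystem)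
open scoped symmDiff Pointwise

/-- Four or more pairs meeting pairwise have a common point. -/
theorem common_point {Ω : Type*} [DecidableEq Ω] {F : Finset (Finset Ω)} (h2 : ∀ P ∈ F, P.card = 2)
    (h4 : 4 ≤ F.card) (hmeet : ∀ P ∈ F, ∀ Q ∈ F, ¬ Disjoint P Q) : ∃ x, ∀ P ∈ F, x ∈ P := by
  obtain ⟨P, hP, Q, hQ, hne⟩ := Finset.one_lt_card.1 (show 1 < F.card by omega)
  obtain ⟨x, hxP, hxQ⟩ := Finset.not_disjoint_iff.1 (hmeet P hP Q hQ)
  refine ⟨x, fun R hR => ?_⟩
  by_contra hxR
  obtain ⟨y, hy⟩ := Finset.card_eq_one.1 (show (P.erase x).card = 1 by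
    rw [Finset.card_erase_of_mem hxP, h2 P hP])
  obtain ⟨w, hw⟩ := Finset.card_eq_one.1 (show (Q.erase x).card = 1 by
    rw [Finset.card_erase_of_mem hxQ, h2 Q hQ])
  have hPe : P = {x, y} := by rw [← hy, Finset.insert_erase hxP]
  have hQe : Q = {x, w} := by rw [← hw, Finset.insert_erase hxQ]
  have hyR : y ∈ R := by
    obtain ⟨a, ha, haR⟩ := Finset.not_disjoint_iff.1 (hmeet P hP R hR)
    rw [hPe] at ha
    rcases Finset.mem_insert.1 ha with rfl | ha
    · exact absurd haR hxR
    · exact Finset.mem_singleton.1 ha ▸ haR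
  have hwR : w ∈ R := by
    obtain ⟨a, ha, haR⟩ := Finset.not_disjoint_iff.1 (hmeet Q hQ R hR)
    rw [hQe] at ha
    rcases Finset.mem_insert.1 ha with rfl | ha
    · exact absurd haR hxR
    · exact Finset.mem_singleton.1 ha ▸ haR
  have hyw : y ≠ w := fun e => hne (by rw [hPe, hQe, e])
  have hRe : R = {y, w} := by
    refine (Finset.eq_of_subset_of_card_le ?_ (by rw [h2 R hR, Finset.card_pair hyw])).symm
    intro a ha
    rcases Finset.mem_insert.1 ha with rfl | ha
    · exact hyR
    · exact Finset.mem_singleton.1 ha ▸ hwR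
  obtain ⟨S, hS, hS3⟩ := Finset.exists_mem_notMem_of_card_lt_card (s := ({P, Q, R} : Finset (Finset Ω))) (t := F)
    (lt_of_le_of_lt (Finset.card_le_three) (by omega))
  simp only [Finset.mem_insert, Finset.mem_singleton, not_or] at hS3
  by_cases hxS : x ∈ S
  · obtain ⟨a, haS, haR⟩ := Finset.not_disjoint_iff.1 (hmeet S hS R hR)
    have hax : x ≠ a := fun e => hxR (e ▸ haR)
    have hSe : ({x, a} : Finset Ω) = S := Finset.eq_of_subset_of_card_le
      (Finset.insert_subset_iff.2 ⟨hxS, Finset.singleton_subset_iff.2 haS⟩) (by rw [h2 S hS, Finset.card_pair hax])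
    rw [hRe] at haR
    rcases Finset.mem_insert.1 haR with rfl | h
    · exact hS3.1 (hSe.symm.trans hPe.symm)
    · rw [Finset.mem_singleton.1 h] at hSe
      exact hS3.2.1 (hSe.symm.trans hQe.symm)
  · have hyS : y ∈ S := by
      obtain ⟨a, ha, haS⟩ := Finset.not_disjoint_iff.1 (hmeet P hP S hS)
      rw [hPe] at ha
      rcases Finset.mem_insert.1 ha with rfl | ha
      · exact absurd haS hxS
      · exact Finset.mem_singleton.1 ha ▸ haS
    have hwS : w ∈ S := by
      obtain ⟨a, ha, haS⟩ := Finset.not_disjoint_iff.1 (hmeet Q hQ S hS)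
      rw [hQe] at ha
      rcases Finset.mem_insert.1 ha with rfl | ha
      · exact absurd haS hxS
      · exact Finset.mem_singleton.1 ha ▸ haS
    refine hS3.2.2 ((Finset.eq_of_subset_of_card_le
      (Finset.insert_subset_iff.2 ⟨hyS, Finset.singleton_subset_iff.2 hwS⟩)
      (by rw [h2 S hS, Finset.card_pair hyw])).symm.trans hRe.symm)

theorem pair_choose_facts : Nat.choose 24 2 = 276 ∧ Nat.choose 24 4 = 10626 := by decide +kernel

variable {B : Type*} [CommGroup B] [Finite B] {Ω : Type*} [Fintype Ω] [DecidableEq Ω]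

/-- The 276 elements labelled by pairs. -/
structure Pairing (N : Set B) (f : Ω → B) : Prop where
  sq : ∀ x : B, x * x = 1
  cardB : Nat.card B = 2 ^ 11
  cardPts : Fintype.card Ω = 24
  count : N.ncard = 276
  degree : ∀ d ∈ N, ({e | e ∈ N ∧ d * e ∈ N}).ncard = 44
  one_notMem : (1 : B) ∉ N
  pair : ∀ a b, a ≠ b → f a * f b ∈ N
  cover : ∀ x ∈ N, ∃ a b, a ≠ b ∧ f a * f b = x

namespace Pairing

variable {N : Set B} {f : Ω → B} (h : Pairing N f)
include h

theorem prod_symmDiff (s t : Finset Ω) : (s ∆ t).prod f = s.prod f * t.prod f := by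
  have h1 := Finset.prod_inter_mul_prod_sdiff s t f
  have h2 := Finset.prod_inter_mul_prod_sdiff t s f
  rw [show s ∆ t = (s \ t) ∪ (t \ s) from rfl, Finset.prod_union disjoint_sdiff_sdiff, ← h1, ← h2,
    Finset.inter_comm t s]
  rw [mul_mul_mul_comm ((s ∩ t).prod f), h.sq, one_mul]

theorem prod_inj {P Q : Finset Ω} (hP : P.card = 2) (hQ : Q.card = 2) (e : P.prod f = Q.prod f) : P = Q := by
  classical
  letI := Fintype.ofFinite B
  have hsub : N.toFinset ⊆ ((Finset.univ : Finset Ω).powersetCard 2).image fun s => s.prod f := by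
    intro x hx
    obtain ⟨a, b, hab, rfl⟩ := h.cover x (Set.mem_toFinset.1 hx)
    exact Finset.mem_image.2 ⟨{a, b}, Finset.mem_powersetCard.2 ⟨Finset.subset_univ _, Finset.card_pair hab⟩,
      Finset.prod_pair hab⟩
  have hcard := Finset.card_le_card hsub
  rw [← Set.ncard_eq_toFinset_card', h.count] at hcard
  refine Finset.injOn_of_card_image_eq (s := (Finset.univ : Finset Ω).powersetCard 2) (f := fun s => s.prod f)
    (le_antisymm Finset.card_image_le ?_) (by simp [hP]) (by simp [hQ]) e
  rw [Finset.card_powersetCard, Finset.card_univ, h.cardPts, pair_choose_facts.1]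
  exact hcard

theorem pair_mem {P : Finset Ω} (hP : P.card = 2) : P.prod f ∈ N := by
  obtain ⟨a, b, hab, rfl⟩ := Finset.card_eq_two.1 hP
  rw [Finset.prod_pair hab]
  exact h.pair a b hab

theorem adj_iff {P Q : Finset Ω} (hP : P.card = 2) (hQ : Q.card = 2) (hne : P ≠ Q) :
    P.prod f * Q.prod f ∈ N ↔ ¬ Disjoint P Q := by
  classical
  have hmeet : ∀ {P Q : Finset Ω}, P.card = 2 → Q.card = 2 → P ≠ Q → ¬ Disjoint P Q → P.prod f * Q.prod f ∈ N := by
    intro P Q hP hQ hne hd
    rw [← h.prod_symmDiff]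
    refine h.pair_mem ?_
    obtain ⟨x, hxP, hxQ⟩ := Finset.not_disjoint_iff.1 hd
    have h1 : 1 ≤ (P ∩ Q).card := Finset.card_pos.2 ⟨x, Finset.mem_inter.2 ⟨hxP, hxQ⟩⟩
    have h2 : (P ∩ Q).card < 2 := by
      by_contra h2
      have e1 := Finset.eq_of_subset_of_card_le (Finset.inter_subset_left (s₁ := P) (s₂ := Q)) (by omega)
      have e2 := Finset.eq_of_subset_of_card_le (Finset.inter_subset_right (s₁ := P) (s₂ := Q)) (by omega)
      exact hne (e1.symm.trans e2)
    rw [show P ∆ Q = (P \ Q) ∪ (Q \ P) from rfl, Finset.card_union_of_disjoint disjoint_sdiff_sdiff]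
    have := Finset.card_sdiff_add_card_inter P Q
    have := Finset.card_sdiff_add_card_inter Q P
    rw [Finset.inter_comm Q P] at this
    omega
  refine ⟨fun hN hd => ?_, hmeet hP hQ hne⟩
  obtain ⟨a, b, hab, rfl⟩ := Finset.card_eq_two.1 hP
  set F := ((({a, b} : Finset Ω)ᶜ).image fun c => ({a, c} : Finset Ω)) ∪
    ((({a, b} : Finset Ω)ᶜ).image fun c => ({b, c} : Finset Ω)) with hF
  have hcompl : ∀ c ∈ ({a, b} : Finset Ω)ᶜ, c ≠ a ∧ c ≠ b := fun c hc => by simpa using hc
  have hinj : ∀ a : Ω, Set.InjOn (fun c => ({a, c} : Finset Ω)) {c | c ≠ a} := by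
    intro a c hc c' _ e
    have : c ∈ ({a, c'} : Finset Ω) := (show ({a, c} : Finset Ω) = {a, c'} from e) ▸
      Finset.mem_insert_of_mem (Finset.mem_singleton_self c)
    exact (Finset.mem_insert.1 this).resolve_left hc |> Finset.mem_singleton.1
  have h22 : (({a, b} : Finset Ω)ᶜ).card = 22 := by rw [Finset.card_compl, h.cardPts, Finset.card_pair hab]
  have hF44 : F.card = 44 := by
    rw [hF, Finset.card_union_of_disjoint, Finset.card_image_of_injOn, Finset.card_image_of_injOn, h22]
    · exact fun c hc c' hc' e => hinj b (hcompl c hc).2 (hcompl c' hc').2 e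
    · exact fun c hc c' hc' e => hinj a (hcompl c hc).1 (hcompl c' hc').1 e
    · refine Finset.disjoint_left.2 fun S hS hS' => ?_
      obtain ⟨c, hc, rfl⟩ := Finset.mem_image.1 hS
      obtain ⟨c', hc', e⟩ := Finset.mem_image.1 hS'
      have : b ∈ ({a, c} : Finset Ω) := e ▸ Finset.mem_insert_self b {c'}
      rcases Finset.mem_insert.1 this with e' | e'
      · exact hab e'.symm
      · exact (hcompl c hc).2 (Finset.mem_singleton.1 e').symm
  have hF2 : ∀ S ∈ F, S.card = 2 ∧ S ≠ {a, b} ∧ ¬ Disjoint ({a, b} : Finset Ω) S := by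
    intro S hS
    rcases Finset.mem_union.1 hS with hS | hS <;> obtain ⟨c, hc, rfl⟩ := Finset.mem_image.1 hS
    · refine ⟨Finset.card_pair (hcompl c hc).1.symm, fun e => ?_, Finset.not_disjoint_iff.2 ⟨a, by simp, by simp⟩⟩
      have : c ∈ ({a, b} : Finset Ω) := e ▸ by simp
      simp [(hcompl c hc).1, (hcompl c hc).2] at this
    · refine ⟨Finset.card_pair (hcompl c hc).2.symm, fun e => ?_, Finset.not_disjoint_iff.2 ⟨b, by simp, by simp⟩⟩
      have : c ∈ ({a, b} : Finset Ω) := e ▸ by simp
      simp [(hcompl c hc).1, (hcompl c hc).2] at this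
  have hd0 := h.degree _ (h.pair_mem (P := {a, b}) (Finset.card_pair hab))
  have hsub : ((F.image fun S => S.prod f : Finset B) : Set B) ⊆
      {e | e ∈ N ∧ ({a, b} : Finset Ω).prod f * e ∈ N} := by
    intro x hx
    obtain ⟨S, hS, rfl⟩ := Finset.mem_image.1 hx
    exact ⟨h.pair_mem (hF2 S hS).1, hmeet (Finset.card_pair hab) (hF2 S hS).1 (hF2 S hS).2.1.symm (hF2 S hS).2.2⟩
  have heq := Set.eq_of_subset_of_ncard_le hsub (by
    rw [hd0, Set.ncard_coe_finset, Finset.card_image_of_injOn, hF44]
    exact fun S hS S' hS' e => h.prod_inj (hF2 S hS).1 (hF2 S' hS').1 e) (Set.toFinite _)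
  have hm : Q.prod f ∈ ((F.image fun S => S.prod f : Finset B) : Set B) := heq.symm ▸ ⟨h.pair_mem hQ, hN⟩
  obtain ⟨S, hS, e⟩ := Finset.mem_image.1 hm
  exact (hF2 S hS).2.2 (h.prod_inj (hF2 S hS).1 hQ e ▸ hd)

theorem small {s : Finset Ω} (h2 : 2 ∣ s.card) (h6 : s.card ≤ 6) (h1 : s.prod f = 1) : s = ∅ := by
  classical
  by_contra hne
  have hpos := Finset.card_pos.2 (Finset.nonempty_iff_ne_empty.2 hne)
  obtain ⟨P, hPs, hP⟩ := Finset.exists_subset_card_eq (show 2 ≤ s.card by omega)
  have hrest : (s \ P).card = s.card - 2 := by rw [Finset.card_sdiff_of_subset hPs, hP]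
  have hs : P.prod f * (s \ P).prod f = 1 := by rw [mul_comm, Finset.prod_sdiff hPs, h1]
  have hs' : (s \ P).prod f = P.prod f := by
    rw [← one_mul ((s \ P).prod f), ← h.sq (P.prod f), mul_assoc, hs, mul_one]
  rcases (show s.card = 2 ∨ s.card = 4 ∨ s.card = 6 by omega) with e | e | e
  · rw [Finset.card_eq_zero.1 (show (s \ P).card = 0 by omega), Finset.prod_empty] at hs'
    exact h.one_notMem (hs' ▸ h.pair_mem hP)
  · have := h.prod_inj hP (show (s \ P).card = 2 by omega) hs'.symm
    have hP0 : P = ∅ := Finset.eq_empty_of_forall_notMem fun x hx => (Finset.mem_sdiff.1 (this ▸ hx)).2 hx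
    rw [hP0, Finset.card_empty] at hP
    omega
  · obtain ⟨R, hRs, hR⟩ := Finset.exists_subset_card_eq (show 2 ≤ (s \ P).card by omega)
    have hU : ((s \ P) \ R).card = 2 := by rw [Finset.card_sdiff_of_subset hRs, hR]; omega
    rw [← Finset.prod_sdiff hRs] at hs'
    have hN : ((s \ P) \ R).prod f * R.prod f ∈ N := hs' ▸ h.pair_mem hP
    refine (h.adj_iff hU hR fun eq => ?_).1 hN Finset.sdiff_disjoint
    obtain ⟨x, hx⟩ := Finset.card_pos.1 (show 0 < R.card by omega)
    exact (Finset.mem_sdiff.1 (eq.symm ▸ hx)).2 hx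

/-- The pairs and the tetrads exhaust the group; the tetrads of a value cover all points. -/
theorem exhaust : (∀ x : B, ∃ t : Finset Ω, 2 ∣ t.card ∧ t.card ≤ 4 ∧ t.prod f = x) ∧
    ∀ (s : Finset Ω) (p : Ω), s.card = 4 → p ∉ s → ∃ t : Finset Ω, t.card = 4 ∧ p ∈ t ∧ Disjoint s t ∧
      t.prod f = s.prod f := by
  classical
  letI := Fintype.ofFinite B
  let Φ : Finset Ω → B := fun s => s.prod f
  set U : ℕ → Finset (Finset Ω) := fun k => Finset.univ.powersetCard k with hU
  have hmU : ∀ {k s}, s ∈ U k ↔ s.card = k := fun {k s} => by simp [hU]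
  have hdis : ∀ {s t : Finset Ω}, s.card = 4 → t.card = 4 → s ≠ t → Φ s = Φ t → Disjoint s t := by
    intro s t hs ht hne e
    rw [Finset.disjoint_iff_inter_eq_empty, ← Finset.card_eq_zero]
    by_contra h0
    refine hne (symmDiff_eq_bot.1 (h.small ?_ ?_ ?_))
    all_goals first
      | (rw [h.prod_symmDiff, show s.prod f = t.prod f from e, h.sq])
      | (rw [show s ∆ t = (s \ t) ∪ (t \ s) from rfl, Finset.card_union_of_disjoint disjoint_sdiff_sdiff]
         have := Finset.card_sdiff_add_card_inter s t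
         have := Finset.card_sdiff_add_card_inter t s
         rw [Finset.inter_comm t s] at this
         omega)
  set S := U 0 ∪ U 2 with hS
  have hS277 : (S.image Φ).card = 277 := by
    have hd : Disjoint (U 0) (U 2) := Finset.disjoint_left.2 fun s hs hs' => by rw [hmU] at hs hs'; omega
    rw [Finset.card_image_of_injOn, hS, Finset.card_union_of_disjoint hd, hU]
    · simp [h.cardPts, pair_choose_facts.1]
    · intro s hs t ht e
      simp only [hS, Finset.coe_union, Set.mem_union, Finset.mem_coe, hmU] at hs ht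
      rcases hs with hs | hs <;> rcases ht with ht | ht
      · rw [Finset.card_eq_zero.1 hs, Finset.card_eq_zero.1 ht]
      · rw [Finset.card_eq_zero.1 hs] at e
        exact absurd (show (1 : B) ∈ N by rw [← show Φ ∅ = 1 from Finset.prod_empty, e]; exact h.pair_mem ht)
          h.one_notMem
      · rw [Finset.card_eq_zero.1 ht] at e
        exact absurd (show (1 : B) ∈ N by rw [← show Φ ∅ = 1 from Finset.prod_empty, ← e]; exact h.pair_mem hs)
          h.one_notMem
      · exact h.prod_inj hs ht e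
  have hfib : ∀ x : B, ((U 4).filter fun s => Φ s = x).card ≤ 6 := by
    intro x
    set F := (U 4).filter fun s => Φ s = x
    have hd : ∀ s ∈ F, ∀ t ∈ F, s ≠ t → Disjoint s t := fun s hs t ht hne => by
      simp only [F, Finset.mem_filter, hmU] at hs ht
      exact hdis hs.1 ht.1 hne (hs.2.trans ht.2.symm)
    have hle := Finset.card_le_univ (F.biUnion fun x => x)
    rw [Finset.card_biUnion hd, h.cardPts, Finset.sum_const_nat (m := 4)] at hle
    · omega
    · intro s hs
      simp only [F, Finset.mem_filter, hmU] at hs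
      exact hs.1
  have h4card : (U 4).card = 10626 := by simp [hU, h.cardPts, pair_choose_facts.2]
  have hdisj : Disjoint (S.image Φ) ((U 4).image Φ) := by
    rw [Finset.disjoint_left]
    intro x hx hx'
    obtain ⟨s, hs, rfl⟩ := Finset.mem_image.1 hx
    obtain ⟨t, ht, e⟩ := Finset.mem_image.1 hx'
    simp only [hS, Finset.mem_union, hmU] at hs ht
    have hle := Finset.card_union_le (t \ s) (s \ t)
    have h1 := Finset.card_sdiff_add_card_inter s t
    have h2 := Finset.card_sdiff_add_card_inter t s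
    rw [Finset.inter_comm t s] at h2
    have hc : (t ∆ s).card = (t \ s).card + (s \ t).card :=
      Finset.card_union_of_disjoint disjoint_sdiff_sdiff
    have h0 := h.small (s := t ∆ s) (by omega) (by omega) (by rw [h.prod_symmDiff, show t.prod f = s.prod f from e, h.sq])
    have := congrArg Finset.card (symmDiff_eq_bot.1 h0)
    omega
  have hB : Fintype.card B = 2048 := by rw [Fintype.card_eq_nat_card, h.cardB]; norm_num
  have hi := Finset.card_le_mul_card_image (U 4) 6 fun x _ => hfib x
  have hu := Finset.card_le_univ (S.image Φ ∪ (U 4).image Φ)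
  rw [Finset.card_union_of_disjoint hdisj, hS277, hB] at hu
  rw [h4card] at hi
  have himg : ((U 4).image Φ).card = 1771 := by omega
  have hall : S.image Φ ∪ (U 4).image Φ = Finset.univ := Finset.eq_univ_of_card _ (by
    rw [Finset.card_union_of_disjoint hdisj, hS277, himg, hB])
  have hsix : ∀ x ∈ (U 4).image Φ, ((U 4).filter fun s => Φ s = x).card = 6 := by
    have e := Finset.card_eq_sum_card_image Φ (U 4)
    rw [h4card] at e
    exact (Finset.sum_eq_sum_iff_of_le fun x _ => hfib x).1 (by rw [← e, Finset.sum_const_nat (fun _ _ => rfl), himg])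
  refine ⟨fun x => ?_, fun s p hs hps => ?_⟩
  · have hx : x ∈ S.image Φ ∪ (U 4).image Φ := by rw [hall]; exact Finset.mem_univ x
    rcases Finset.mem_union.1 hx with hx | hx <;> obtain ⟨t, ht, rfl⟩ := Finset.mem_image.1 hx
    · simp only [hS, Finset.mem_union, hmU] at ht
      exact ⟨t, by omega, by omega, rfl⟩
    · rw [hmU] at ht
      exact ⟨t, by omega, by omega, rfl⟩
  · set F := (U 4).filter fun t => Φ t = Φ s with hF
    have h6 : F.card = 6 := hsix _ (Finset.mem_image_of_mem Φ (hmU.2 hs))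
    have hd : ∀ s ∈ F, ∀ t ∈ F, s ≠ t → Disjoint s t := fun a ha b hb hne => by
      simp only [F, Finset.mem_filter, hmU] at ha hb
      exact hdis ha.1 hb.1 hne (ha.2.trans hb.2.symm)
    have huniv : (F.biUnion fun x => x) = Finset.univ := Finset.eq_univ_of_card _ (by
      rw [Finset.card_biUnion hd, Finset.sum_const_nat (m := 4), h6, h.cardPts]
      intro a ha
      simp only [F, Finset.mem_filter, hmU] at ha
      exact ha.1)
    obtain ⟨t, ht, hpt⟩ := Finset.mem_biUnion.1 (huniv.symm ▸ Finset.mem_univ p)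
    simp only [F, Finset.mem_filter, hmU] at ht
    exact ⟨t, ht.1, hpt, hdis hs ht.1 (fun e => hps (e ▸ hpt)) ht.2.symm, ht.2⟩

/-- The blocks form a Steiner system. -/
theorem steiner : IsSteinerSystem 5 8 {b : Finset Ω | b.card = 8 ∧ b.prod f = 1} := by
  classical
  refine ⟨fun b hb => hb.1, fun s hs => ?_⟩
  obtain ⟨p, hp⟩ := Finset.card_pos.1 (show 0 < s.card by omega)
  have hs' : (s.erase p).card = 4 := by rw [Finset.card_erase_of_mem hp, hs]
  obtain ⟨t, ht, hpt, hdis, e⟩ := h.exhaust.2 _ p hs' (Finset.notMem_erase p s)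
  refine ⟨s.erase p ∪ t, ⟨⟨?_, ?_⟩, fun x hx => ?_⟩, fun b hb => ?_⟩
  · rw [Finset.card_union_of_disjoint hdis, hs', ht]
  · rw [Finset.prod_union hdis, e, h.sq]
  · by_cases hxp : x = p
    · exact Finset.mem_union_right _ (hxp ▸ hpt)
    · exact Finset.mem_union_left _ (Finset.mem_erase.2 ⟨hxp, hx⟩)
  · obtain ⟨⟨hb8, hb1⟩, hsb⟩ := hb
    set b' := s.erase p ∪ t
    have hb'8 : b'.card = 8 := by rw [Finset.card_union_of_disjoint hdis, hs', ht]
    have hsb' : s ⊆ b' := fun x hx => by
      by_cases hxp : x = p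
      · exact Finset.mem_union_right _ (hxp ▸ hpt)
      · exact Finset.mem_union_left _ (Finset.mem_erase.2 ⟨hxp, hx⟩)
    have h5 := Finset.card_le_card (Finset.subset_inter hsb hsb')
    have h1 := Finset.card_sdiff_add_card_inter b b'
    have h2 := Finset.card_sdiff_add_card_inter b' b
    rw [Finset.inter_comm b' b] at h2
    have hc : (b ∆ b').card = (b \ b').card + (b' \ b).card := Finset.card_union_of_disjoint disjoint_sdiff_sdiff
    refine symmDiff_eq_bot.1 (h.small (by omega) (by omega) ?_)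
    rw [h.prod_symmDiff, hb1, one_mul, Finset.prod_union hdis, e, h.sq]

/-- The permutation of the points of an automorphism. -/
theorem exists_perm (α : B ≃* B) (hα : ∀ x, α x ∈ N ↔ x ∈ N) :
    ∃ σ : Equiv.Perm Ω, ∀ a b, α (f a * f b) = f (σ a) * f (σ b) := by
  classical
  have himg : ∀ P : Finset Ω, P.card = 2 → ∃ Q : Finset Ω, Q.card = 2 ∧ Q.prod f = α (P.prod f) := fun P hP => by
    obtain ⟨a, b, hab, e⟩ := h.cover _ ((hα _).2 (h.pair_mem hP))
    exact ⟨{a, b}, Finset.card_pair hab, by rw [Finset.prod_pair hab, e]⟩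
  choose θ hθ2 hθ using himg
  have hmeet : ∀ P Q (hP : P.card = 2) (hQ : Q.card = 2), P ≠ Q → (¬ Disjoint P Q ↔ ¬ Disjoint (θ P hP) (θ Q hQ)) ∧
      θ P hP ≠ θ Q hQ := by
    intro P Q hP hQ hne
    have hne' : θ P hP ≠ θ Q hQ := fun e => hne (h.prod_inj hP hQ (α.injective (by rw [← hθ P hP, ← hθ Q hQ, e])))
    refine ⟨?_, hne'⟩
    rw [← h.adj_iff hP hQ hne, ← h.adj_iff (hθ2 P hP) (hθ2 Q hQ) hne', hθ, hθ, ← map_mul, hα]
  have hstar : ∀ a : Ω, ∃ x, ∀ b (hb : a ≠ b), x ∈ θ {a, b} (Finset.card_pair hb) := by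
    intro a
    set F := ((Finset.univ.erase a).attach.image fun b => θ {a, b.1}
      (Finset.card_pair (Finset.mem_erase.1 b.2).1.symm)) with hF
    have hne : ∀ {b c : Ω}, a ≠ b → b ≠ c → ({a, b} : Finset Ω) ≠ {a, c} := by
      intro b c hab hbc e
      have : b ∈ ({a, c} : Finset Ω) := e ▸ Finset.mem_insert_of_mem (Finset.mem_singleton_self b)
      rcases Finset.mem_insert.1 this with e' | e'
      · exact hab e'.symm
      · exact hbc (Finset.mem_singleton.1 e')
    have hc : F.card = 23 := by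
      rw [hF, Finset.card_image_of_injective, Finset.card_attach, Finset.card_erase_of_mem (Finset.mem_univ a),
        Finset.card_univ, h.cardPts]
      rintro ⟨b, hb⟩ ⟨c, hc⟩ e
      refine Subtype.ext (by_contra fun hbc => ?_)
      exact (hmeet _ _ _ _ (hne (Finset.mem_erase.1 hb).1.symm hbc)).2 e
    obtain ⟨x, hx⟩ := common_point (F := F) (fun P hP => by
        obtain ⟨b, -, rfl⟩ := Finset.mem_image.1 hP
        exact hθ2 _ _) (by omega) (fun P hP Q hQ => by
        obtain ⟨b, -, rfl⟩ := Finset.mem_image.1 hP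
        obtain ⟨c, -, rfl⟩ := Finset.mem_image.1 hQ
        by_cases hbc : b.1 = c.1
        · rw [Subtype.ext hbc, disjoint_self]
          intro e
          have h2 := hθ2 {a, c.1} (Finset.card_pair (Finset.mem_erase.1 c.2).1.symm)
          rw [e] at h2
          simp at h2
        · exact (hmeet _ _ _ _ (hne (Finset.mem_erase.1 b.2).1.symm hbc)).1.1
            (Finset.not_disjoint_iff.2 ⟨a, by simp, by simp⟩))
    exact ⟨x, fun b hb => hx _ (Finset.mem_image.2
      ⟨⟨b, Finset.mem_erase.2 ⟨hb.symm, Finset.mem_univ b⟩⟩, Finset.mem_attach _ _, rfl⟩)⟩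
  choose g hg using hstar
  have hginj : Function.Injective g := by
    intro a b e
    by_contra hab
    obtain ⟨c, -, hc⟩ := Finset.exists_mem_notMem_of_card_lt_card (s := ({a, b} : Finset Ω)) (t := Finset.univ)
      (by rw [Finset.card_pair hab, Finset.card_univ, h.cardPts]; norm_num)
    obtain ⟨d, -, hd⟩ := Finset.exists_mem_notMem_of_card_lt_card (s := ({a, b, c} : Finset Ω)) (t := Finset.univ)
      (lt_of_le_of_lt Finset.card_le_three (by rw [Finset.card_univ, h.cardPts]; norm_num))
    simp only [Finset.mem_insert, Finset.mem_singleton, not_or] at hc hd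
    have hac : a ≠ c := Ne.symm hc.1
    have hbd : b ≠ d := Ne.symm hd.2.1
    have hdj : Disjoint ({a, c} : Finset Ω) {b, d} := by
      simp only [Finset.disjoint_left, Finset.mem_insert, Finset.mem_singleton]
      rintro x (rfl | rfl) (rfl | rfl)
      exacts [hab rfl, hd.1 rfl, hc.2 rfl, hd.2.2 rfl]
    have hne : ({a, c} : Finset Ω) ≠ {b, d} := fun e' => by simp [e'] at hdj
    exact (hmeet _ _ (Finset.card_pair hac) (Finset.card_pair hbd) hne).1.2
      (Finset.not_disjoint_iff.2 ⟨g a, hg a c hac, e ▸ hg b d hbd⟩) hdj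
  refine ⟨Equiv.ofBijective g (Finite.injective_iff_bijective.1 hginj), fun a b => ?_⟩
  by_cases hab : a = b
  · rw [hab, h.sq, map_one]
    exact (h.sq _).symm
  have hgab : g a ≠ g b := fun e => hab (hginj e)
  have heq : ({g a, g b} : Finset Ω) = θ {a, b} (Finset.card_pair hab) := by
    refine Finset.eq_of_subset_of_card_le ?_ (by rw [hθ2, Finset.card_pair hgab])
    intro x hx
    rcases Finset.mem_insert.1 hx with rfl | hx
    · exact hg a b hab
    · rw [Finset.mem_singleton.1 hx]
      have := hg b a (Ne.symm hab)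
      simpa only [Finset.pair_comm b a] using this
  rw [← Finset.prod_pair hab, ← hθ _ (Finset.card_pair hab), ← heq, Finset.prod_pair hgab]
  rfl

theorem perm_unique {σ τ : Equiv.Perm Ω} (e : ∀ a b, f (σ a) * f (σ b) = f (τ a) * f (τ b)) : σ = τ := by
  classical
  refine Equiv.ext fun a => ?_
  by_contra hne
  obtain ⟨b, -, hb⟩ := Finset.exists_mem_notMem_of_card_lt_card (s := ({a} : Finset Ω)) (t := Finset.univ)
    (by rw [Finset.card_singleton, Finset.card_univ, h.cardPts]; norm_num)
  obtain ⟨c, -, hc⟩ := Finset.exists_mem_notMem_of_card_lt_card (s := ({a, b} : Finset Ω)) (t := Finset.univ)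
    (lt_of_le_of_lt Finset.card_le_two (by rw [Finset.card_univ, h.cardPts]; norm_num))
  simp only [Finset.mem_insert, Finset.mem_singleton, not_or] at hb hc
  have key : ∀ x, x ≠ a → σ a = τ x := fun x hx => by
    have h1 : σ a ≠ σ x := fun e => hx (σ.injective e).symm
    have h2 : τ a ≠ τ x := fun e => hx (τ.injective e).symm
    have h3 := h.prod_inj (Finset.card_pair h1) (Finset.card_pair h2)
      (by rw [Finset.prod_pair h1, Finset.prod_pair h2, e])
    have h4 : σ a ∈ ({τ a, τ x} : Finset Ω) := h3 ▸ Finset.mem_insert_self _ _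
    exact (Finset.mem_insert.1 h4).resolve_left hne |> Finset.mem_singleton.1
  exact hc.2 (τ.injective ((key b hb).symm.trans (key c hc.1))).symm

theorem prod_image_perm {α : B ≃* B} {σ : Equiv.Perm Ω} (e : ∀ a b, α (f a * f b) = f (σ a) * f (σ b))
    {s : Finset Ω} (hs : 2 ∣ s.card) : (s.image σ).prod f = α (s.prod f) := by
  obtain ⟨k, hk⟩ := hs
  have hone : ∀ x : B, x ^ (2 * k) = 1 := fun x => by rw [pow_mul, pow_two, h.sq, one_pow]
  rw [Finset.prod_image fun x _ y _ e => σ.injective e]
  rcases isEmpty_or_nonempty Ω with hΩ | ⟨⟨p⟩⟩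
  · rw [Finset.eq_empty_of_isEmpty s, Finset.prod_empty, Finset.prod_empty, map_one]
  · have h1 : ∏ x ∈ s, f (σ p) * f (σ x) = ∏ x ∈ s, f (σ x) := by
      rw [Finset.prod_mul_distrib, Finset.prod_const, hk, hone, one_mul]
    have h2 : ∏ x ∈ s, f p * f x = ∏ x ∈ s, f x := by
      rw [Finset.prod_mul_distrib, Finset.prod_const, hk, hone, one_mul]
    rw [← h1, ← h2, map_prod]
    exact Finset.prod_congr rfl fun x _ => (e p x).symm

end Pairing

/-- The action of the automorphisms on the points of the code. -/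
theorem Pairing.exists_action {Γ : Type*} [Group Γ] (ρ : Γ →* MulAut B) {N : Set B} {f : Ω → B}
    (h : Pairing N f) (hρ : ∀ m x, x ∈ N → ρ m x ∈ N) :
    ∃ ψ : Γ →* Equiv.Perm GolayPt, ψ.ker = ρ.ker ∧ ψ.range ≤ Cfsg.M24 ∧
      ∀ t ∈ N, ∃ a b : GolayPt, a ≠ b ∧ ∀ m, ρ m t = t ↔ ψ m • ({a, b} : Set GolayPt) = {a, b} := by
  classical
  have hiff : ∀ m x, ρ m x ∈ N ↔ x ∈ N := fun m x => ⟨fun hx => by
    have := hρ m⁻¹ _ hx
    rwa [map_inv, MulAut.inv_apply_self] at this, hρ m x⟩
  choose g hg using fun m => h.exists_perm (ρ m) (hiff m)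
  let σ : Γ →* Equiv.Perm Ω := MonoidHom.mk' g fun m m' => h.perm_unique fun a b => by
    show f (g (m * m') a) * f (g (m * m') b) = f (g m (g m' a)) * f (g m (g m' b))
    rw [← hg (m * m'), ← hg m, ← hg m', ρ.map_mul, MulAut.mul_apply]
  obtain ⟨e, he⟩ := CfsgLib.Golay.iso_octads h.cardPts h.steiner
  let ψ : Γ →* Equiv.Perm GolayPt := e.permCongrHom.toMonoidHom.comp σ
  have hψ : ∀ m x, ψ m (e x) = e (g m x) := fun m x => by
    show e (σ m (e.symm (e x))) = _
    rw [Equiv.symm_apply_apply]
    rfl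
  refine ⟨ψ, ?_, ?_, fun t ht => ?_⟩
  · ext m
    rw [MonoidHom.mem_ker, MonoidHom.mem_ker]
    constructor
    · intro hm
      have hσ : g m = 1 := Equiv.ext fun x => e.injective (by rw [← hψ, hm]; rfl)
      refine MulEquiv.ext fun x => ?_
      obtain ⟨s, hs, -, rfl⟩ := h.exhaust.1 x
      rw [← h.prod_image_perm (hg m) hs, hσ]
      simp
    · intro hm
      have hσ : g m = 1 := h.perm_unique fun a b => by rw [← hg, hm]; rfl
      exact Equiv.ext fun y => by rw [← e.apply_symm_apply y, hψ, hσ]; rfl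
  · rintro _ ⟨m, rfl⟩
    refine CfsgLib.Golay.smul_octads_mem_M24 _ fun o ho _ => ?_
    rw [← he] at ho ⊢
    obtain ⟨b, ⟨hb8, hb1⟩, rfl⟩ := ho
    refine ⟨b.image (g m), ⟨?_, ?_⟩, ?_⟩
    · rw [Finset.card_image_of_injective _ (g m).injective, hb8]
    · rw [h.prod_image_perm (hg m) (by rw [hb8]; norm_num), hb1, map_one]
    · show (b.image (g m)).image e = ψ m • b.image e
      rw [Finset.smul_finset_def, Finset.image_image, Finset.image_image]
      exact Finset.image_congr fun u _ => (hψ m u).symm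
  · obtain ⟨a, b, hab, rfl⟩ := h.cover t ht
    refine ⟨e a, e b, fun e' => hab (e.injective e'), fun m => ?_⟩
    have himg : ψ m • ({e a, e b} : Set GolayPt) = {e (g m a), e (g m b)} := by
      rw [Set.smul_set_insert, Set.smul_set_singleton, Equiv.Perm.smul_def, Equiv.Perm.smul_def, hψ, hψ]
    rw [himg, hg]
    constructor
    · intro heq
      have hne : g m a ≠ g m b := fun e' => hab ((g m).injective e')
      have := h.prod_inj (Finset.card_pair hne) (Finset.card_pair hab)
        (by rw [Finset.prod_pair hne, Finset.prod_pair hab, heq])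
      rw [Finset.ext_iff] at this
      ext y
      obtain ⟨x, rfl⟩ := e.surjective y
      simpa using this x
    · intro heq
      rw [Set.pair_eq_pair_iff] at heq
      rcases heq with ⟨x, y⟩ | ⟨x, y⟩
      · rw [e.injective x, e.injective y]
      · rw [e.injective x, e.injective y, mul_comm]

end CfsgLib.LargeFischer.Thompson
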