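import Cfsg.Agent.Lib.LargeFischer.OtherClass

/-!
# The second class of `2^4` in the quotient: normaliser, centraliser and commutator spaces
-/

set_option autoImplicit false
set_option linter.unusedSectionVars false

namespace CfsgLib.LargeFischer.Thompson

open QuadraticMap
open CfsgLib.Schur.Tails.UFour (H4 card_H4)

variable {V : Type*} [AddCommGroup V] [Module (ZMod 2) V] [Finite V]
  {K : Type*} [Group K] [Finite K] [DistribMulAction K V]

/-- The image of `v ↦ k v + v`. -/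
def rg (k : K) : AddSubgroup V :=
  (AddMonoidHom.mk' (fun v : V => k • v + v) fun a b => by simp only [smul_add]; abel).range

theorem mem_rg {k : K} {w : V} : w ∈ (rg k : AddSubgroup V) ↔ ∃ v : V, k • v + v = w := Iff.rfl

/-- The span of the orbit of a vector under an element of order three without fixed vectors. -/
def ln (n : K) (v : V) : Set V := {0, v, n • v, n • n • v}

/-- An elementary group of order sixteen in the second class. -/
structure Other (q : QuadraticForm (ZMod 2) V) (n : K) (M : Subgroup K) (φ : ↥M →* ↥H4) (s : V)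
    (E : Subgroup K) (D : AddSubgroup V) (A : Subgroup K) : Prop where
  core : Core q n M φ
  cen : Central q K s
  dat : CentData q s E D
  le : A ≤ M
  elem : Cfsg.IsElementaryAbelian 2 A
  card : Nat.card ↥A = 16
  count : U43.fixCount ((A.subgroupOf M).map φ) ≠ U43.fixCount (((E ⊓ M).subgroupOf M).map φ)
  quad : ∀ a ∈ A, ∀ v : V, a • v + v ∈ (fixSub A : AddSubgroup V)

namespace Other

variable {q : QuadraticForm (ZMod 2) V} {n : K} {M : Subgroup K} {φ : ↥M →* ↥H4} {s : V}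
  {E : Subgroup K} {D : AddSubgroup V} {A : Subgroup K} (o : Other q n M φ s E D A)

include o

theorem facts : (∀ v ∈ (fixSub A : AddSubgroup V), q v = 0) ∧ Nat.card ↥(fixSub A : AddSubgroup V) = 64 ∧
    (∀ v ∈ (fixSub A : AddSubgroup V), n • v ∈ (fixSub A : AddSubgroup V)) ∧
    perpSub q (fixSub A : AddSubgroup V) = fixSub A :=
  o.core.other_fixed o.cen o.dat o.le o.elem o.card o.count

theorem n_move {v : V} (hv : v ≠ 0) : n • v ≠ v ∧ n • n • v ≠ v ∧ n • n • v ≠ n • v ∧ n • v ≠ 0 ∧ n • n • v ≠ 0 := by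
  have h1 := o.core.smul_ne_zero o.cen hv
  refine ⟨o.core.smul_n_ne o.cen hv, fun e => o.core.smul_n_ne o.cen hv ?_, o.core.smul_n_ne o.cen h1, h1,
    o.core.smul_ne_zero o.cen h1⟩
  conv_lhs => rw [← e]
  exact o.core.smul_n_three v

theorem n_sum (v : V) : v + n • v = n • n • v := (o.core.n_quad o.cen v).symm

theorem ln_ncard {v : V} (hv : v ≠ 0) : (ln n v).ncard = 4 := by
  obtain ⟨a, b, d, e, f⟩ := o.n_move hv
  rw [ln, Set.ncard_insert_of_notMem, Set.ncard_insert_of_notMem, Set.ncard_pair d.symm]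
  · simp only [Set.mem_insert_iff, Set.mem_singleton_iff, not_or]; exact ⟨a.symm, b.symm⟩
  · simp only [Set.mem_insert_iff, Set.mem_singleton_iff, not_or]; exact ⟨hv.symm, e.symm, f.symm⟩

theorem ln_subset {W : AddSubgroup V} (hW : ∀ v ∈ W, n • v ∈ W) {v : V} (hv : v ∈ W) : ln n v ⊆ W := by
  rintro x (rfl | rfl | rfl | rfl)
  exacts [W.zero_mem, hv, hW _ hv, hW _ (hW _ hv)]

theorem ln_add {v x y : V} (hx : x ∈ ln n v) (hy : y ∈ ln n v) : x + y ∈ ln n v := by
  have h1 := o.n_sum v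
  have h2 : v + n • n • v = n • v := by rw [← h1, ← add_assoc, vadd_self, zero_add]
  have h3 : n • v + n • n • v = v := by rw [← h1, add_comm v, ← add_assoc, vadd_self, zero_add]
  simp only [ln, Set.mem_insert_iff, Set.mem_singleton_iff] at hx hy ⊢
  rcases hx with a | a | a | a <;> rcases hy with b | b | b | b <;>
    simp [a, b, vadd_self, h1, h2, h3, add_comm (n • v) v, add_comm (n • n • v) v, add_comm (n • n • v) (n • v)]

theorem ln_smul {v x : V} (hx : x ∈ ln n v) : n • x ∈ ln n v := by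
  rcases hx with rfl | rfl | rfl | rfl
  · exact Or.inl (smul_zero _)
  · exact Or.inr (Or.inr (Or.inl rfl))
  · exact Or.inr (Or.inr (Or.inr rfl))
  · exact Or.inr (Or.inl (o.core.smul_n_three v))

theorem ln_disjoint {v w x : V} (hx : x ∈ ln n w) (hx0 : x ≠ 0) (hxv : x ∈ ln n v) : w ∈ ln n v := by
  rcases hx with e | e | e | e
  · exact absurd e hx0
  · exact e ▸ hxv
  · have := o.ln_smul (o.ln_smul hxv)
    rwa [e, o.core.smul_n_three] at this
  · have := o.ln_smul hxv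
    rwa [e, o.core.smul_n_three] at this

/-- The span of two lines has sixteen vectors. -/
theorem span_two {v w : V} (hv : v ≠ 0) (hw : w ∉ ln n v) :
    ((fun p : V × V => p.1 + p.2) '' (ln n v ×ˢ ln n w)).ncard = 16 := by
  have hw0 : w ≠ 0 := fun e => hw (Or.inl e)
  rw [Set.InjOn.ncard_image, Set.ncard_prod, o.ln_ncard hv, o.ln_ncard hw0]
  rintro ⟨a, b⟩ ⟨ha, hb⟩ ⟨a', b'⟩ ⟨ha', hb'⟩ (e : a + b = a' + b')
  have h : a + a' = b + b' := by
    refine eq_of_vadd ?_
    calc a + a' + (b + b') = (a + b) + (a' + b') := by abel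
      _ = 0 := by rw [e, vadd_self]
  by_cases h0 : b + b' = 0
  · rw [h0] at h
    exact Prod.ext (eq_of_vadd h) (eq_of_vadd h0)
  · exact absurd (o.ln_disjoint (o.ln_add hb hb') h0 (h ▸ o.ln_add ha ha')) hw

theorem rg_le {a : K} (ha : a ∈ A) : (rg a : AddSubgroup V) ≤ fixSub A := by
  rintro _ ⟨v, rfl⟩
  exact o.quad a ha v

theorem rg_n {a : K} (ha : a ∈ A) {w : V} (hw : w ∈ (rg a : AddSubgroup V)) : n • w ∈ (rg a : AddSubgroup V) := by
  obtain ⟨v, rfl⟩ := hw
  refine ⟨n • v, ?_⟩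
  show a • n • v + n • v = n • (a • v + v)
  rw [smul_add, ← mul_smul, o.core.commute (o.le ha), mul_smul]

theorem self_inv {a : K} (ha : a ∈ A) : a⁻¹ = a :=
  inv_eq_of_mul_eq_one_left (by rw [← pow_two]; exact o.elem.2 a ha)

theorem symm {a : K} (ha : a ∈ A) (v w : V) : polar q (a • v + v) w = polar q v (a • w + w) := by
  rw [QuadraticMap.polar_add_left, QuadraticMap.polar_add_right]
  congr 1
  rw [← o.core.polar_smul a, ← mul_smul, show a * a = 1 by rw [← pow_two]; exact o.elem.2 a ha, one_smul]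

theorem rg_mul {a b : K} (ha : a ∈ A) (hb : b ∈ A) (v : V) :
    (a * b) • v + v = (b • v + v) + (a • v + v) := by
  have h := o.quad b hb v a ha
  calc (a * b) • v + v = (a • (b • v + v)) + (a • v + v) := by
        rw [smul_add, mul_smul, add_add_add_comm, ← add_assoc, add_assoc (a • b • v), vadd_self, add_zero]
    _ = _ := by rw [h]

/-- The normaliser. -/
theorem exists_norm : ∃ (Y : Subgroup K) (g : ↥Y →* ↥(alternatingGroup (Fin 6))),
    Y = Subgroup.normalizer (A : Set K) ⊓ M ∧ Nat.card ↥Y = 17280 ∧ A ≤ Y ∧ n ∈ Y ∧ Function.Surjective g ∧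
      ∀ y : ↥Y, g y = 1 → ∃ a ∈ A, a⁻¹ * (y : K) ∈ Subgroup.zpowers n := by
  obtain ⟨Y, g, hYM, hYc, hAY, hnY, hY, hg, hk⟩ := o.core.exists_norm o.le o.elem o.card.ge
  have hle : Y ≤ Subgroup.normalizer (A : Set K) ⊓ M := fun y hy => ⟨by
    refine Subgroup.mem_normalizer_iff.2 fun a => ⟨fun h => hY y hy a h, fun h => ?_⟩
    have := hY y⁻¹ (inv_mem hy) _ h
    simpa [mul_assoc] using this, hYM hy⟩
  obtain ⟨h1, h2⟩ := o.core.elem_map o.le o.elem
  obtain ⟨-, hN, -⟩ := U43.elementary_facts h1 (h2.symm ▸ o.card.ge)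
  set A' := (A.subgroupOf M).map φ
  set N := Subgroup.normalizer (A : Set K) ⊓ M
  have hb : Nat.card ↥N ≤ 17280 := by
    let ψ : ↥N →* ↥H4 := φ.comp (Subgroup.inclusion (inf_le_right : N ≤ M))
    have hr : ψ.range ≤ Subgroup.normalizer (A' : Set ↥H4) := by
      rintro _ ⟨y, rfl⟩
      rw [Subgroup.mem_normalizer_iff_map_conj_eq]
      refine Subgroup.eq_of_le_of_card_ge ?_
        (le_of_eq (Subgroup.card_map_of_injective (MulEquiv.injective _)).symm)
      rintro _ ⟨_, ⟨a, ha, rfl⟩, rfl⟩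
      refine ⟨⟨(y : K) * a * (y : K)⁻¹, M.mul_mem (M.mul_mem y.2.2 a.2) (M.inv_mem y.2.2)⟩,
        (Subgroup.mem_normalizer_iff.1 y.2.1 (a : K)).1 ha, ?_⟩
      show φ (Subgroup.inclusion (inf_le_right : N ≤ M) y * a * (Subgroup.inclusion (inf_le_right : N ≤ M) y)⁻¹) = _
      rw [map_mul, map_mul, map_inv]
      rfl
    have h := ψ.ker.card_mul_index
    rw [Subgroup.index_ker] at h
    have h3 : Nat.card ↥ψ.ker ≤ 3 := by
      rw [← o.core.card_zn]
      exact Nat.card_le_card_of_injective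
        (fun y : ↥ψ.ker => (⟨((y : ↥N) : K), (o.core.ker _).1 y.2⟩ : ↥(Subgroup.zpowers n)))
        fun y y' e => Subtype.ext (Subtype.ext (congrArg (fun w : ↥(Subgroup.zpowers n) => (w : K)) e))
    have h4 := Nat.le_of_dvd Nat.card_pos (Subgroup.card_dvd_of_le hr)
    rw [hN] at h4
    rw [← h]
    calc Nat.card ↥ψ.ker * Nat.card ↥ψ.range ≤ 3 * 5760 := Nat.mul_le_mul h3 h4
      _ = 17280 := by norm_num
  exact ⟨Y, g, Subgroup.eq_of_le_of_card_ge hle (by rw [hYc]; exact hb), hYc, hAY, hnY, hg, hk⟩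

theorem norm_M_card : Nat.card ↥(Subgroup.normalizer (A : Set K) ⊓ M) = 17280 := by
  obtain ⟨Y, g, hY, h, -⟩ := o.exists_norm
  rw [← hY, h]

/-- The class is invariant. -/
theorem exists_outer_norm : ∃ e : K, e ∉ M ∧ e ∈ Subgroup.normalizer (A : Set K) := by
  obtain ⟨k, hk⟩ := o.core.exists_outer o.cen
  have hkM : k ∉ M := fun h => hk (o.core.commute h)
  set A' := A.map (MulAut.conj k).toMonoidHom with hA'
  haveI := o.core.M_normal
  have hA'M : A' ≤ M := by rintro _ ⟨a, ha, rfl⟩; exact o.core.M_normal.conj_mem a (o.le ha) k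
  have hA'e : Cfsg.IsElementaryAbelian 2 A' := by
    refine ⟨⟨⟨?_⟩⟩, ?_⟩
    · rintro ⟨_, a, ha, rfl⟩ ⟨_, b, hb, rfl⟩
      refine Subtype.ext ?_
      show MulAut.conj k a * MulAut.conj k b = MulAut.conj k b * MulAut.conj k a
      rw [← map_mul, ← map_mul]
      exact congrArg _ (congrArg Subtype.val (o.elem.1.is_comm.comm (⟨a, ha⟩ : ↥A) ⟨b, hb⟩))
    · rintro _ ⟨a, ha, rfl⟩
      rw [← map_pow, o.elem.2 a ha, map_one]
  have hc' : U43.fixCount ((A'.subgroupOf M).map φ) ≠ U43.fixCount (((E ⊓ M).subgroupOf M).map φ) := fun hcnt => by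
    have h4 := o.core.fixed_small o.cen o.dat hA'M hA'e
      (by rw [hA', Subgroup.card_map_of_injective (MulEquiv.injective _), o.card]) hcnt
    have h5 : Nat.card ↥(fixSub A : AddSubgroup V) ≤ Nat.card ↥(fixSub A' : AddSubgroup V) :=
      Nat.card_le_card_of_injective (fun v => (⟨k • (v : V), by
        rintro _ ⟨a, ha, rfl⟩
        show (k * a * k⁻¹) • k • (v : V) = k • (v : V)
        rw [mul_smul, mul_smul, inv_smul_smul, v.2 a ha]⟩ : ↥(fixSub A' : AddSubgroup V)))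
        fun v w e => Subtype.ext (MulAction.injective k (Subtype.mk.inj e))
    rw [o.facts.2.1] at h5
    omega
  obtain ⟨h1, h2⟩ := o.core.elem_map o.le o.elem
  obtain ⟨h3, h4⟩ := o.core.elem_map hA'M hA'e
  have hcc : U43.fixCount ((A.subgroupOf M).map φ) = U43.fixCount ((A'.subgroupOf M).map φ) := by
    have hel : Cfsg.IsElementaryAbelian 2 (E ⊓ M) := elem_inf o.dat.elem
    obtain ⟨h5, h6⟩ := o.core.elem_map (A := E ⊓ M) inf_le_right hel
    have h16 := (o.core.data_cards o.dat).2.2.1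
    rcases U43.count_cases h1 (h2 ▸ o.card.ge) with e | e <;>
      rcases U43.count_cases h3 (by rw [h4, hA', Subgroup.card_map_of_injective (MulEquiv.injective _), o.card]) with e' | e' <;>
      rcases U43.count_cases h5 (by rw [h6, h16]) with e0 | e0 <;> have := o.count <;> omega
  obtain ⟨w, hw⟩ := U43.conj_of_count h1 h3 (h2 ▸ o.card.ge)
    (by rw [h4, hA', Subgroup.card_map_of_injective (MulEquiv.injective _), o.card]) hcc
  obtain ⟨m, rfl⟩ := o.core.surj w
  refine ⟨(m : K)⁻¹ * k, fun h => hkM (by simpa using M.mul_mem m.2 h), ?_⟩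
  rw [Subgroup.mem_normalizer_iff_map_conj_eq]
  refine Subgroup.eq_of_le_of_card_ge ?_ (le_of_eq (Subgroup.card_map_of_injective (MulEquiv.injective _)).symm)
  rintro _ ⟨a, ha, rfl⟩
  obtain ⟨_, ⟨b, hb, rfl⟩, hbe⟩ : φ ⟨k * a * k⁻¹, hA'M ⟨a, ha, rfl⟩⟩ ∈
      ((A.subgroupOf M).map φ).map (MulAut.conj (φ m)).toMonoidHom := hw ▸ ⟨⟨_, hA'M ⟨a, ha, rfl⟩⟩, ⟨a, ha, rfl⟩, rfl⟩
  have hbe' : φ (m * b * m⁻¹) = φ ⟨k * a * k⁻¹, hA'M ⟨a, ha, rfl⟩⟩ := by rw [map_mul, map_mul, map_inv]; exact hbe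
  have e := o.core.eq_of_map (m * b * m⁻¹).2 (hA'M ⟨a, ha, rfl⟩) (by
      show (m : K) * b * (m : K)⁻¹ * ((m : K) * b * (m : K)⁻¹) = 1
      rw [show (m : K) * b * (m : K)⁻¹ * ((m : K) * b * (m : K)⁻¹) = (m : K) * ((b : K) * b) * (m : K)⁻¹ by group,
        ← pow_two, o.elem.2 (b : K) hb, mul_one, mul_inv_cancel]) (by
      show k * a * k⁻¹ * (k * a * k⁻¹) = 1
      rw [show k * a * k⁻¹ * (k * a * k⁻¹) = k * (a * a) * k⁻¹ by group,
        ← pow_two, o.elem.2 _ ha, mul_one, mul_inv_cancel]) hbe'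
  show (m : K)⁻¹ * k * a * ((m : K)⁻¹ * k)⁻¹ ∈ A
  rw [show (m : K)⁻¹ * k * a * ((m : K)⁻¹ * k)⁻¹ = (m : K)⁻¹ * (k * a * k⁻¹) * (m : K) by group]
  have e' : k * a * k⁻¹ = (m : K) * b * (m : K)⁻¹ := e.symm
  rw [e']
  rw [show (m : K)⁻¹ * ((m : K) * b * (m : K)⁻¹) * (m : K) = b by group]
  exact hb

theorem norm_card : Nat.card ↥(Subgroup.normalizer (A : Set K)) = 34560 := by
  obtain ⟨e, heM, he⟩ := o.exists_outer_norm
  set N := Subgroup.normalizer (A : Set K)
  haveI := o.core.M_normal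
  have h1 : (N ⊓ M).relIndex N = 2 := by
    rw [Subgroup.inf_relIndex_left]
    have := Subgroup.relIndex_dvd_index_of_normal M N
    rw [o.core.indexM] at this
    rcases (Nat.dvd_prime Nat.prime_two).1 this with h | h
    · exact absurd (Subgroup.relIndex_eq_one.1 h he) heM
    · exact h
  have h2 := Subgroup.relIndex_mul_relIndex ⊥ (N ⊓ M) N bot_le inf_le_left
  rw [Subgroup.relIndex_bot_left, Subgroup.relIndex_bot_left, h1, o.norm_M_card] at h2
  omega

theorem transitive {a b : K} (ha : a ∈ A) (ha1 : a ≠ 1) (hb : b ∈ A) (hb1 : b ≠ 1) :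
    ∃ y : K, y ∈ Subgroup.normalizer (A : Set K) ∧ y ∈ M ∧ y * a * y⁻¹ = b := by
  obtain ⟨Y, g, hY, hYc, -, -, hg, hk⟩ := o.exists_norm
  have hYM : Y ≤ M := hY ▸ inf_le_right
  have hYA : ∀ y ∈ Y, ∀ x ∈ A, y * x * y⁻¹ ∈ A := fun y hy x hx =>
    (Subgroup.mem_normalizer_iff.1 (hY ▸ hy : y ∈ Subgroup.normalizer (A : Set K) ⊓ M).1 x).1 hx
  let S : Set K := {x | ∃ y ∈ Y, y * a * y⁻¹ = x}
  rcases o.core.invariant_cases o.le o.elem o.card hYM hYc hg hk hYA S (fun x hx => by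
      obtain ⟨y, hy, rfl⟩ := hx
      exact ⟨hYA y hy a ha, fun e => ha1 (by simpa using conj_eq_one_iff.1 e)⟩) (fun u hu x hx => by
      obtain ⟨y, hy, rfl⟩ := hx
      exact ⟨u * y, mul_mem hu hy, by group⟩) with h | h
  · have hm : a ∈ S := ⟨1, one_mem _, by group⟩
    rw [h] at hm
    exact absurd hm (Set.notMem_empty a)
  · obtain ⟨y, hy, e⟩ := h b hb hb1
    have := hY ▸ hy
    exact ⟨y, this.1, this.2, e⟩

theorem eq_of_cent {k : K} (hkA : ∀ a ∈ A, k * a = a * k) (hkF : ∀ v ∈ (fixSub A : AddSubgroup V), k • v = v) :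
    k ∈ A := by
  obtain ⟨hsing, hF64, hnF, -⟩ := o.facts
  have hkM : k ∈ M := by
    by_contra h
    have h1 := o.core.fixed_outer o.cen h _ hnF
    rw [show {v : V | v ∈ (fixSub A : AddSubgroup V) ∧ k • v = v} = ((fixSub A : AddSubgroup V) : Set V) from
      Set.ext fun v => ⟨fun hv => hv.1, fun hv => ⟨hv, hkF v hv⟩⟩, ← Nat.card_coe_set_eq, SetLike.coe_sort_coe,
      hF64] at h1
    omega
  obtain ⟨Y, g, hY, hYc, hAY, hnY, hg, hk⟩ := o.exists_norm
  have hkY : k ∈ Y := hY ▸ ⟨Subgroup.mem_normalizer_iff.2 fun a => by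
    constructor
    · intro ha; rw [hkA a ha, mul_inv_cancel_right]; exact ha
    · intro ha
      have e := hkA _ ha
      have : k * a * k⁻¹ = a := by
        calc k * a * k⁻¹ = k⁻¹ * (k * (k * a * k⁻¹)) := by group
          _ = a := by rw [e]; group
      rwa [this] at ha, hkM⟩
  -- the centraliser in `Y` maps to a normal subgroup of the alternating group
  let C : Subgroup ↥Y := (Subgroup.centralizer (A : Set K)).subgroupOf Y
  haveI : C.Normal := ⟨fun c hc y => by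
    have hy := (hY ▸ y.2 : (y : K) ∈ Subgroup.normalizer (A : Set K) ⊓ M).1
    show (y : K) * (c : K) * (y : K)⁻¹ ∈ Subgroup.centralizer (A : Set K)
    refine Subgroup.mem_centralizer_iff.2 fun a ha => ?_
    have h1 : (y : K)⁻¹ * a * (y : K) ∈ A := by
      have := (Subgroup.mem_normalizer_iff.1 (inv_mem hy) a).1 ha
      simpa using this
    have e : (y : K)⁻¹ * a * (y : K) * (c : K) = (c : K) * ((y : K)⁻¹ * a * (y : K)) :=
      Subgroup.mem_centralizer_iff.1 hc _ h1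
    calc a * ((y : K) * (c : K) * (y : K)⁻¹) = (y : K) * ((y : K)⁻¹ * a * (y : K) * (c : K)) * (y : K)⁻¹ := by group
      _ = _ := by rw [e]; group⟩
  haveI : IsSimpleGroup ↥(alternatingGroup (Fin 6)) := alternatingGroup.isSimpleGroup (by simp)
  have hC : C.map g = ⊥ := by
    refine ((Subgroup.Normal.map inferInstance g hg).eq_bot_or_eq_top).resolve_right fun e => ?_
    obtain ⟨a, ha, ha1⟩ : ∃ a ∈ A, a ≠ 1 := by
      by_contra hc
      push Not at hc
      have h := o.card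
      rw [(Subgroup.eq_bot_iff_forall A).2 hc, Subgroup.card_bot] at h
      omega
    obtain ⟨b, hb, hb1, hba⟩ : ∃ b ∈ A, b ≠ 1 ∧ b ≠ a := by
      by_contra hc
      push Not at hc
      have hsub : (A : Set K) ⊆ {1, a} := fun x hx => by
        by_cases h1 : x = 1
        · exact Or.inl h1
        · exact Or.inr (hc x hx h1)
      have h := Set.ncard_le_ncard hsub (Set.toFinite _)
      rw [← Nat.card_coe_set_eq, SetLike.coe_sort_coe, o.card] at h
      have := Set.ncard_insert_le (1 : K) {a}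
      rw [Set.ncard_singleton] at this
      omega
    obtain ⟨y, hy1, hy2, hya⟩ := o.transitive ha ha1 hb hb1
    obtain ⟨c, hc, hcy⟩ : g ⟨y, hY ▸ ⟨hy1, hy2⟩⟩ ∈ C.map g := e ▸ Subgroup.mem_top _
    obtain ⟨x, hx, hxn⟩ := hk (c⁻¹ * ⟨y, hY ▸ ⟨hy1, hy2⟩⟩) (by rw [map_mul, map_inv, hcy, inv_mul_cancel])
    apply hba
    rw [← hya]
    obtain ⟨w, hw, hwe⟩ : ∃ w ∈ Subgroup.zpowers n, y = (c : K) * x * w :=
      ⟨_, hxn, by simp [mul_assoc]⟩
    have h1 : w * a = a * w := by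
      rcases o.core.zn_cases hw with e | e | e <;> rw [e]
      · simp
      · exact (o.core.commute (o.le ha)).symm
      · rw [mul_assoc, ← o.core.commute (o.le ha), ← mul_assoc, ← o.core.commute (o.le ha), mul_assoc]
    have h2 : x * a = a * x := congrArg Subtype.val (o.elem.1.is_comm.comm (⟨x, hx⟩ : ↥A) ⟨a, ha⟩)
    have h3 : (c : K) * a = a * c := (Subgroup.mem_centralizer_iff.1 hc a ha).symm
    rw [hwe, mul_inv_eq_iff_eq_mul, mul_assoc _ w, h1, ← mul_assoc, mul_assoc (c : K), h2, ← mul_assoc, h3]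
    group
  have hgk : g ⟨k, hkY⟩ = 1 := by
    have : g ⟨k, hkY⟩ ∈ C.map g := ⟨⟨k, hkY⟩, Subgroup.mem_centralizer_iff.2 fun a ha => (hkA a ha).symm, rfl⟩
    rwa [hC, Subgroup.mem_bot] at this
  obtain ⟨a, ha, hw⟩ := hk _ hgk
  replace hw : a⁻¹ * k ∈ Subgroup.zpowers n := hw
  obtain ⟨v, hv, hv0⟩ : ∃ v ∈ (fixSub A : AddSubgroup V), v ≠ 0 := by
    by_contra hc
    push Not at hc
    rw [(AddSubgroup.eq_bot_iff_forall _).2 hc, AddSubgroup.card_bot] at hF64
    omega
  have hfix : (a⁻¹ * k) • v = v := by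
    rw [mul_smul, hkF v hv]
    exact hv _ (inv_mem ha)
  rcases o.core.zn_cases hw with e | e | e
  · rw [← inv_mul_eq_one.1 e]; exact ha
  · rw [e] at hfix; exact absurd hfix (o.n_move hv0).1
  · rw [e, mul_smul] at hfix; exact absurd hfix (o.n_move hv0).2.1

theorem smul_ln {y : K} (hy : y ∈ M) {v x : V} (hx : x ∈ ln n v) : y • x ∈ ln n (y • v) := by
  have hc : ∀ u : V, y • n • u = n • y • u := fun u => by rw [← mul_smul, o.core.commute hy, mul_smul]
  rcases hx with rfl | rfl | rfl | rfl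
  · exact Or.inl (smul_zero _)
  · exact Or.inr (Or.inl rfl)
  · exact Or.inr (Or.inr (Or.inl (hc v)))
  · exact Or.inr (Or.inr (Or.inr (show y • n • n • v = n • n • y • v by rw [hc, hc])))

/-- Two independent lines lie in some commutator space. -/
theorem exists_two_lines : ∃ a ∈ A, a ≠ 1 ∧ ∃ v w : V, v ∈ (rg a : AddSubgroup V) ∧ w ∈ (rg a : AddSubgroup V) ∧
    v ≠ 0 ∧ w ∉ ln n v := by
  classical
  by_contra hsmall
  push Not at hsmall
  have hvec : ∀ b ∈ A, b ≠ 1 → ∃ v, v ≠ 0 ∧ ((rg b : AddSubgroup V) : Set V) = ln n v := fun b hb hb1 => by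
    obtain ⟨v, hv, hv0⟩ : ∃ v ∈ (rg b : AddSubgroup V), v ≠ 0 := by
      by_contra hc
      push Not at hc
      exact hb1 (o.core.faithful b fun v => eq_of_vadd (hc _ ⟨v, rfl⟩))
    exact ⟨v, hv0, Set.Subset.antisymm (fun w hw => hsmall b hb hb1 v w hv hw hv0) (o.ln_subset (fun _ => o.rg_n hb) hv)⟩
  have hsame : ∀ b ∈ A, b ≠ 1 → ∀ c ∈ A, c ≠ 1 → ∀ v, ((rg b : AddSubgroup V) : Set V) = ln n v → v ≠ 0 →
      ∀ w ∈ (rg c : AddSubgroup V), w ∈ ln n v := by
    intro b hb hb1 c hc hc1 v hv hv0 w hw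
    by_contra hwv
    obtain ⟨v', hv'0, hv'⟩ := hvec c hc hc1
    have hw0 : w ≠ 0 := fun e => hwv (Or.inl e)
    -- a kernel is not inside the other
    have hker : ∀ (b c : K), b ∈ A → c ∈ A → ∀ v, ((rg b : AddSubgroup V) : Set V) = ln n v → v ≠ 0 →
        (∀ u : V, b • u + u = 0 → c • u + u = 0) → ∀ x ∈ (rg c : AddSubgroup V), x ∈ ln n v := by
      intro b c hb hc v hv hv0 hsub x hx
      let f : V →+ V := AddMonoidHom.mk' (fun v : V => b • v + v) fun a b => by simp only [smul_add]; abel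
      have h1 := f.ker.card_mul_index
      rw [AddSubgroup.index_ker, show f.range = rg b from rfl, o.core.cardV] at h1
      have hrc : Nat.card ↥(rg b : AddSubgroup V) = 4 := by
        rw [← SetLike.coe_sort_coe, Nat.card_coe_set_eq, hv, o.ln_ncard hv0]
      rw [hrc] at h1
      have h2 := perpSub_card q o.core.nondeg f.ker
      rw [o.core.cardV] at h2
      have hle : (rg b : AddSubgroup V) ≤ perpSub q f.ker := by
        rintro _ ⟨u, rfl⟩ k hk
        show polar q (b • u + u) k = 0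
        rw [o.symm hb, show b • k + k = 0 from hk, QuadraticMap.polar_zero_right]
      have heq := AddSubgroup.eq_of_le_of_card_ge hle (by
        rw [hrc]
        have hpos : 0 < Nat.card ↥f.ker := Nat.card_pos
        by_contra h
        nlinarith)
      have hx' : x ∈ perpSub q f.ker := by
        obtain ⟨u, rfl⟩ := hx
        intro k hk
        show polar q (c • u + u) k = 0
        rw [o.symm hc, hsub k hk, QuadraticMap.polar_zero_right]
      rw [← hv]
      exact heq.symm ▸ hx'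
    obtain ⟨u, hu, hu'⟩ : ∃ u : V, b • u + u = 0 ∧ c • u + u ≠ 0 := by
      by_contra h
      push Not at h
      exact hwv (hker b c hb hc v hv hv0 h w hw)
    obtain ⟨u', hu2, hu2'⟩ : ∃ u : V, c • u + u = 0 ∧ b • u + u ≠ 0 := by
      by_contra h
      push Not at h
      have h3 := hker c b hc hb v' hv' hv'0 h v (show v ∈ ((rg b : AddSubgroup V) : Set V) by rw [hv]; exact Or.inr (Or.inl rfl))
      exact hwv (o.ln_disjoint h3 hv0 (Or.inr (Or.inl rfl)) |> fun h4 => by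
        have hwv' : w ∈ ln n v' := hv' ▸ hw
        exact o.ln_subset (W := rg b) (fun _ => o.rg_n hb) (show v' ∈ ((rg b : AddSubgroup V) : Set V) from hv ▸ h4) hwv'
          |> fun h5 => hv ▸ h5)
    have hbc : b * c ∈ A := mul_mem hb hc
    have hbc1 : b * c ≠ 1 := fun e => by
      rw [← inv_eq_of_mul_eq_one_right e, o.self_inv hb] at hw
      exact hwv (hv ▸ hw)
    have m1 : c • u + u ∈ (rg (b * c) : AddSubgroup V) :=
      ⟨u, show (b * c) • u + u = c • u + u by rw [o.rg_mul hb hc, hu, add_zero]⟩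
    have m2 : b • u' + u' ∈ (rg (b * c) : AddSubgroup V) :=
      ⟨u', show (b * c) • u' + u' = b • u' + u' by rw [o.rg_mul hb hc, hu2, zero_add]⟩
    have h3 := hsmall _ hbc hbc1 _ _ m2 m1 hu2'
    have hb' : b • u' + u' ∈ ln n v := hv ▸ (⟨u', rfl⟩ : b • u' + u' ∈ (rg b : AddSubgroup V))
    have hc' : c • u + u ∈ ln n v' := hv' ▸ (⟨u, rfl⟩ : c • u + u ∈ (rg c : AddSubgroup V))
    have h4 : c • u + u ∈ ((rg b : AddSubgroup V) : Set V) :=
      o.ln_subset (fun _ => o.rg_n hb) ⟨u', rfl⟩ h3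
    have h5 : v' ∈ ln n v := o.ln_disjoint hc' hu' (hv ▸ h4)
    exact hwv (hv ▸ o.ln_subset (W := rg b) (fun _ => o.rg_n hb) (show v' ∈ ((rg b : AddSubgroup V) : Set V) from hv ▸ h5)
      (hv' ▸ hw))
  obtain ⟨b, hb, hb1⟩ : ∃ b ∈ A, b ≠ 1 := by
    by_contra hc
    push Not at hc
    have h := o.card
    rw [(Subgroup.eq_bot_iff_forall A).2 hc, Subgroup.card_bot] at h
    omega
  obtain ⟨v, hv0, hv⟩ := hvec b hb hb1
  have hvb : v ∈ (rg b : AddSubgroup V) := show v ∈ ((rg b : AddSubgroup V) : Set V) by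
    rw [hv]; exact Or.inr (Or.inl rfl)
  obtain ⟨Y, g, hY, hYc, hAY, hnY, -⟩ := o.exists_norm
  have hY' : ∀ y ∈ Y, y ∈ Subgroup.normalizer (A : Set K) ∧ y ∈ M := fun y hy => Subgroup.mem_inf.1 (hY ▸ hy)
  obtain ⟨y, hy, h1, h2, h3⟩ := o.core.other_moves o.cen o.dat o.le o.elem o.card (fun y hy => (hY' y hy).2) hYc hAY hnY
    (fun y hy a ha => (Subgroup.mem_normalizer_iff.1 (hY' y hy).1 a).1 ha) o.count
    (o.facts.1 v (o.rg_le hb hvb)) hv0 (o.rg_le hb hvb)
  obtain ⟨u, hu⟩ := hvb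
  have hm : y • v ∈ (rg (y * b * y⁻¹) : AddSubgroup V) := ⟨y • u, by
    show (y * b * y⁻¹) • y • u + y • u = y • v
    rw [← show b • u + u = v from hu, smul_add, mul_smul, mul_smul, inv_smul_smul]⟩
  rcases hsame b hb hb1 _ ((Subgroup.mem_normalizer_iff.1 (hY' y hy).1 b).1 hb)
    (fun e => hb1 (conj_eq_one_iff.1 e)) v hv hv0 _ hm with e | e | e | e
  · exact hv0 (MulAction.injective y (e.trans (smul_zero _).symm))
  · exact h1 e
  · exact h2 e
  · exact h3 e

/-- A commutator space has sixteen or sixty-four vectors. -/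
theorem rg_card {a : K} (ha : a ∈ A) (ha1 : a ≠ 1) :
    Nat.card ↥(rg a : AddSubgroup V) = 16 ∨ Nat.card ↥(rg a : AddSubgroup V) = 64 := by
  obtain ⟨-, hF64, -, -⟩ := o.facts
  obtain ⟨a₀, ha₀, ha₀1, v₀, w₀, hv₀, hw₀, hv₀0, hwv₀⟩ := o.exists_two_lines
  obtain ⟨y, -, hyM, hy⟩ := o.transitive ha₀ ha₀1 ha ha1
  have hmove : ∀ u ∈ (rg a₀ : AddSubgroup V), y • u ∈ (rg a : AddSubgroup V) := by
    rintro _ ⟨u, rfl⟩
    refine ⟨y • u, ?_⟩
    show a • y • u + y • u = y • (a₀ • u + u)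
    rw [← hy, smul_add, mul_smul, mul_smul, inv_smul_smul]
  set v := y • v₀
  set w := y • w₀
  have hv : v ∈ (rg a : AddSubgroup V) := hmove _ hv₀
  have hw : w ∈ (rg a : AddSubgroup V) := hmove _ hw₀
  have hv0 : v ≠ 0 := fun e => hv₀0 (MulAction.injective y (e.trans (smul_zero _).symm))
  have hwv : w ∉ ln n v := fun h => hwv₀ (by
    have := o.smul_ln (M.inv_mem hyM) h
    rwa [inv_smul_smul, inv_smul_smul] at this)
  set S : Set V := (fun p : V × V => p.1 + p.2) '' (ln n v ×ˢ ln n w) with hS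
  have hn : ∀ u ∈ (rg a : AddSubgroup V), n • u ∈ (rg a : AddSubgroup V) := fun _ => o.rg_n ha
  have hSR : S ⊆ ((rg a : AddSubgroup V) : Set V) := by
    rintro _ ⟨⟨x, y⟩, ⟨hx, hy⟩, rfl⟩
    exact AddSubgroup.add_mem _ (o.ln_subset hn hv hx) (o.ln_subset hn hw hy)
  have hR : Nat.card ↥(rg a : AddSubgroup V) = ((rg a : AddSubgroup V) : Set V).ncard := by
    rw [← Nat.card_coe_set_eq]; rfl
  by_cases h : ((rg a : AddSubgroup V) : Set V) ⊆ S
  · left; rw [hR, Set.Subset.antisymm h hSR, o.span_two hv0 hwv]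
  · right
    obtain ⟨u, hu, huS⟩ := Set.not_subset.1 h
    refine le_antisymm (hF64 ▸ Nat.le_of_dvd Nat.card_pos (AddSubgroup.card_dvd_of_le (o.rg_le ha))) ?_
    have hu0 : u ≠ 0 := fun e => huS ⟨(0, 0), ⟨Or.inl rfl, Or.inl rfl⟩, by rw [e]; exact add_zero _⟩
    have hSadd : ∀ x ∈ S, ∀ x' ∈ S, x + x' ∈ S := by
      rintro _ ⟨⟨a₁, b₁⟩, ⟨ha₁, hb₁⟩, rfl⟩ _ ⟨⟨a₂, b₂⟩, ⟨ha₂, hb₂⟩, rfl⟩
      exact ⟨(a₁ + a₂, b₁ + b₂), ⟨o.ln_add ha₁ ha₂, o.ln_add hb₁ hb₂⟩, add_add_add_comm _ _ _ _⟩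
    have hSn : ∀ x ∈ S, n • x ∈ S := by
      rintro _ ⟨⟨a₁, b₁⟩, ⟨ha₁, hb₁⟩, rfl⟩
      exact ⟨(n • a₁, n • b₁), ⟨o.ln_smul ha₁, o.ln_smul hb₁⟩, (smul_add _ _ _).symm⟩
    have hinj : Set.InjOn (fun p : V × V => p.1 + p.2) (ln n u ×ˢ S) := by
      rintro ⟨x, t⟩ ⟨hx, ht⟩ ⟨x', t'⟩ ⟨hx', ht'⟩ (e : x + t = x' + t')
      have h : x + x' = t + t' := by
        refine eq_of_vadd ?_
        calc x + x' + (t + t') = (x + t) + (x' + t') := by abel
          _ = 0 := by rw [e, vadd_self]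
      by_cases h0 : x + x' = 0
      · have h1 : t + t' = 0 := h ▸ h0
        exact Prod.ext (eq_of_vadd h0) (eq_of_vadd h1)
      · exfalso
        have hm : x + x' ∈ S := h ▸ hSadd t ht t' ht'
        rcases o.ln_add hx hx' with e | e | e | e
        · exact h0 e
        · exact huS (e ▸ hm)
        · exact huS (by have := hSn _ (hSn _ (e ▸ hm)); rwa [o.core.smul_n_three] at this)
        · exact huS (by have := hSn _ (e ▸ hm); rwa [o.core.smul_n_three] at this)
    have hc : ((fun p : V × V => p.1 + p.2) '' (ln n u ×ˢ S)).ncard = 64 := by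
      rw [Set.InjOn.ncard_image hinj, Set.ncard_prod, o.ln_ncard hu0, o.span_two hv0 hwv]
    rw [hR, ← hc]
    refine Set.ncard_le_ncard ?_ (Set.toFinite _)
    rintro _ ⟨⟨x, t⟩, ⟨hx, ht⟩, rfl⟩
    exact AddSubgroup.add_mem _ (o.ln_subset hn hu hx) (hSR ht)

end Other

end CfsgLib.LargeFischer.Thompson
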