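import Cfsg.Agent.Lib.LargeFischer.Thompson.Fixed

/-!
# The central vectors in the fixed space: number
-/

set_option autoImplicit false
set_option linter.unusedSectionVars false
set_option linter.style.haveILetI false

namespace CfsgLib.LargeFischer.Thompson

open QuadraticMap
open CfsgLib.Schur.Tails.UFour (H4 card_H4)

/-- No subgroup of index nine in the alternating group of degree six. -/
theorem index_ne_nine (H : Subgroup ↥(alternatingGroup (Fin 6))) : H.index ≠ 9 := by
  intro h
  haveI := Fact.mk Nat.prime_five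
  have hc := H.card_mul_index
  have h360 : Nat.card ↥(alternatingGroup (Fin 6)) = 360 := by
    rw [nat_card_alternatingGroup, Nat.card_fin]; decide
  rw [h, h360] at hc
  obtain ⟨x, hx⟩ := exists_prime_orderOf_dvd_card' (G := ↥H) 5 (by rw [show Nat.card ↥H = 40 by omega]; norm_num)
  obtain ⟨p, hp⟩ : ∃ p : Fin 6, x • p ≠ p := by
    by_contra hall
    push Not at hall
    have : x = 1 := Subtype.ext (Subtype.ext (Equiv.ext fun p => hall p))
    rw [this, orderOf_one] at hx
    omega
  have h5 : 5 ≤ (MulAction.orbit ↥H p).ncard := by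
    have hsub : MulAction.orbit ↥(Subgroup.zpowers x) p ⊆ MulAction.orbit ↥H p := by
      rintro _ ⟨⟨y, hy⟩, rfl⟩
      exact ⟨y, rfl⟩
    refine le_trans ?_ (Set.ncard_le_ncard hsub (Set.toFinite _))
    have hz := (MulAction.stabilizer ↥(Subgroup.zpowers x) p).card_mul_index
    rw [MulAction.index_stabilizer, Nat.card_zpowers, hx] at hz
    have hne : (MulAction.orbit ↥(Subgroup.zpowers x) p).ncard ≠ 1 := fun e => by
      obtain ⟨a, ha⟩ := Set.ncard_eq_one.1 e
      have h1 : p ∈ MulAction.orbit ↥(Subgroup.zpowers x) p := MulAction.mem_orbit_self p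
      have h2 : x • p ∈ MulAction.orbit ↥(Subgroup.zpowers x) p := ⟨⟨x, Subgroup.mem_zpowers x⟩, rfl⟩
      rw [ha] at h1 h2
      exact hp (h2.trans h1.symm)
    rcases (Nat.dvd_prime Nat.prime_five).1 (Dvd.intro_left _ hz) with e | e
    · exact absurd e hne
    · exact e.ge
  have hs := (MulAction.stabilizer ↥H p).card_mul_index
  rw [MulAction.index_stabilizer, show Nat.card ↥H = 40 by omega] at hs
  have h6 : (MulAction.orbit ↥H p).ncard ≤ 6 := by
    refine (Set.ncard_le_ncard (Set.subset_univ _) (Set.toFinite _)).trans ?_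
    rw [Set.ncard_univ, Nat.card_fin]
  -- the stabiliser has order eight, impossible in a point stabiliser
  have horb : (MulAction.orbit ↥H p).ncard = 5 := by
    generalize (MulAction.orbit ↥H p).ncard = k at *
    interval_cases k
    · rfl
    · omega
  rw [horb] at hs
  have hle : (MulAction.stabilizer ↥H p).map H.subtype ≤ MulAction.stabilizer ↥(alternatingGroup (Fin 6)) p := by
    rintro _ ⟨y, hy, rfl⟩
    exact hy
  have hd := Subgroup.card_dvd_of_le hle
  rw [Subgroup.card_map_of_injective H.subtype_injective, show Nat.card ↥(MulAction.stabilizer ↥H p) = 8 by omega] at hd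
  have hs6 := (MulAction.stabilizer ↥(alternatingGroup (Fin 6)) p).card_mul_index
  haveI : MulAction.IsPretransitive ↥(alternatingGroup (Fin 6)) (Fin 6) :=
    alternatingGroup.isPretransitive_of_three_le_card (Fin 6) (by simp)
  rw [MulAction.index_stabilizer_of_transitive, Nat.card_fin, h360] at hs6
  rw [show Nat.card ↥(MulAction.stabilizer ↥(alternatingGroup (Fin 6)) p) = 60 by omega] at hd
  omega

/-- Possible sizes of invariant sets. -/
def reach : List ℕ := [0, 18, 24, 30, 36, 42, 45, 48, 54, 60, 63]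

theorem reach_add : ∀ a ∈ [18, 24, 30, 36, 45, 54, 60], ∀ b ∈ reach, a + b ≤ 63 → a + b ∈ reach := by decide

namespace Other

variable {V : Type*} [AddCommGroup V] [Module (ZMod 2) V] [Finite V]
  {K : Type*} [Group K] [Finite K] [DistribMulAction K V]
  {q : QuadraticForm (ZMod 2) V} {n : K} {M : Subgroup K} {φ : ↥M →* ↥H4} {s : V}
  {E : Subgroup K} {D : AddSubgroup V} {A : Subgroup K} (o : Other q n M φ s E D A)

include o

/-- The fixed space contains a central vector. -/
theorem exists_central_fixed : ∃ v ∈ (fixSub A : AddSubgroup V), v ≠ 0 ∧ v ∈ MulAction.orbit K s := by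
  classical
  haveI := Fact.mk Nat.prime_two
  obtain ⟨-, hX, -⟩ := o.core.central_facts o.cen
  set X := MulAction.stabilizer K s ⊓ M with hXdef
  set XM := X.subgroupOf M with hXM
  have hXM5 : Nat.card ↥XM = 5760 := by rw [hXM, Nat.card_congr (Subgroup.subgroupOfEquivOfLe inf_le_right).toEquiv, hX]
  obtain ⟨P, hP⟩ : ∃ P : Subgroup ↥M, P ≤ XM ∧ Nat.card ↥P = 2 ^ 7 := by
    obtain ⟨P, hP⟩ := Sylow.exists_subgroup_card_pow_prime (G := ↥XM) 2 (n := 7) (by rw [hXM5]; norm_num)
    exact ⟨P.map XM.subtype, Subgroup.map_subtype_le _, by rw [Subgroup.card_map_of_injective XM.subtype_injective, hP]⟩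
  have hsyl : ∀ S : Sylow 2 ↥M, Nat.card ↥(S : Subgroup ↥M) = 2 ^ 7 := fun S => by
    obtain ⟨k, hk⟩ := IsPGroup.iff_card.1 S.2
    have hd : Nat.card ↥(S : Subgroup ↥M) ∣ 9797760 := o.core.card_M ▸ Subgroup.card_subgroup_dvd_card _
    obtain ⟨P', hP'⟩ := (IsPGroup.of_card hP.2).exists_le_sylow
    have h7 : 2 ^ 7 ∣ Nat.card ↥(S : Subgroup ↥M) := by
      rw [S.card_eq_multiplicity, ← P'.card_eq_multiplicity, ← hP.2]
      exact Subgroup.card_dvd_of_le hP'
    rw [hk] at hd h7 ⊢
    congr 1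
    by_contra hne
    have h7' : 7 ≤ k := (Nat.pow_dvd_pow_iff_le_right (by norm_num)).1 h7
    have h8 : 2 ^ 8 ∣ 9797760 := (pow_dvd_pow 2 (show 8 ≤ k by omega)).trans hd
    norm_num at h8
  obtain ⟨S, hS⟩ := (IsPGroup.of_card hP.2).exists_le_sylow
  have hSP : (S : Subgroup ↥M) = P := (Subgroup.eq_of_le_of_card_ge hS (by rw [hsyl, hP.2])).symm
  have hA2 : IsPGroup 2 ↥(A.subgroupOf M) := IsPGroup.of_card (n := 4) (by
    rw [Nat.card_congr (Subgroup.subgroupOfEquivOfLe o.le).toEquiv, o.card]; norm_num)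
  obtain ⟨S', hS'⟩ := hA2.exists_le_sylow
  obtain ⟨w, hw⟩ := MulAction.exists_smul_eq ↥M S' S
  refine ⟨(w : K)⁻¹ • s, fun a ha => ?_, fun e => o.cen.ne ?_, ⟨(w : K)⁻¹, rfl⟩⟩
  · have h1 : MulAut.conj w (⟨a, o.le ha⟩ : ↥M) ∈ (S : Subgroup ↥M) := by
      rw [← hw]
      exact Subgroup.smul_mem_pointwise_smul (⟨a, o.le ha⟩ : ↥M) (MulAut.conj w) (S' : Subgroup ↥M) (hS' ha)
    have h2 : ((w : K) * a * (w : K)⁻¹) • s = s := (Subgroup.mem_inf.1 (hP.1 (hSP ▸ h1))).1
    rw [mul_smul, mul_smul] at h2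
    exact (MulAction.injective (w : K)) (h2.trans (smul_inv_smul _ _).symm)
  · rw [← smul_inv_smul (w : K) s, e, smul_zero]

/-- The number of central vectors in the fixed space. -/
theorem central_count_cases :
    ({v : V | v ∈ (fixSub A : AddSubgroup V) ∧ v ≠ 0 ∧ v ∈ MulAction.orbit K s}).ncard ∈ [18, 45, 63] := by
  classical
  obtain ⟨hsing, hF64, hnF, -⟩ := o.facts
  obtain ⟨Y, g, hY, hYc, hAY, hnY, hg, hk⟩ := o.exists_norm
  have hY' : ∀ y ∈ Y, y ∈ Subgroup.normalizer (A : Set K) ∧ y ∈ M := fun y hy => Subgroup.mem_inf.1 (hY ▸ hy)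
  have hYF : ∀ y ∈ Y, ∀ v ∈ (fixSub A : AddSubgroup V), y • v ∈ (fixSub A : AddSubgroup V) := fun y hy v hv =>
    Core.smul_fixSub (fun y hy a ha => (Subgroup.mem_normalizer_iff.1 (hY' y hy).1 a).1 ha) hy hv
  have h360 : Nat.card ↥(alternatingGroup (Fin 6)) = 360 := by
    rw [nat_card_alternatingGroup, Nat.card_fin]; decide
  have hker : Nat.card ↥g.ker = 48 := by
    have h := g.ker.card_mul_index
    rw [Subgroup.index_ker, MonoidHom.range_eq_top.2 hg, Subgroup.card_top, h360, hYc] at h
    omega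
  -- the sizes of the orbits
  have horb : ∀ v ∈ (fixSub A : AddSubgroup V), v ≠ 0 →
      (MulAction.orbit ↥Y v).ncard ∈ [18, 24, 30, 36, 45, 54, 60] := by
    intro v hv hv0
    set S := MulAction.stabilizer ↥Y v with hS
    have h63 : (MulAction.orbit ↥Y v).ncard ≤ 63 := by
      have hsub : MulAction.orbit ↥Y v ⊆ ((fixSub A : AddSubgroup V) : Set V) \ {0} := by
        rintro _ ⟨y, rfl⟩
        exact ⟨hYF y y.2 v hv, fun e => hv0 (MulAction.injective (y : K) (e.trans (smul_zero _).symm))⟩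
      refine (Set.ncard_le_ncard hsub (Set.toFinite _)).trans ?_
      rw [Set.ncard_sdiff (by simp), Set.ncard_singleton, ← Nat.card_coe_set_eq, SetLike.coe_sort_coe, hF64]
    let f : ↥S →* ↥(alternatingGroup (Fin 6)) := g.comp S.subtype
    have hfk : Nat.card ↥f.ker = 16 := by
      rw [← o.card]
      refine Nat.card_eq_of_bijective (fun y : ↥f.ker => (⟨((y : ↥S) : ↥Y).1, ?_⟩ : ↥A)) ⟨?_, ?_⟩
      · obtain ⟨a, ha, hw⟩ := hk ((y : ↥S) : ↥Y) y.2
        have hyv : (((y : ↥S) : ↥Y) : K) • v = v := (y : ↥S).2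
        have hfix : (a⁻¹ * (((y : ↥S) : ↥Y) : K)) • v = v := by
          rw [mul_smul, hyv]
          exact hv _ (inv_mem ha)
        rcases o.core.zn_cases hw with e | e | e
        · rw [← inv_mul_eq_one.1 e]; exact ha
        · rw [e] at hfix; exact absurd hfix (o.n_move hv0).1
        · rw [e, mul_smul] at hfix; exact absurd hfix (o.n_move hv0).2.1
      · intro y y' e
        exact Subtype.ext (Subtype.ext (Subtype.ext (congrArg (fun a : ↥A => (a : K)) e)))
      · intro a
        have hga : g ⟨(a : K), hAY a.2⟩ = 1 := by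
          obtain ⟨Y', g', -⟩ := o.exists_norm
          set ga := g ⟨(a : K), hAY a.2⟩ with hga
          -- the image of the group is normal of two-power order
          haveI : IsSimpleGroup ↥(alternatingGroup (Fin 6)) := alternatingGroup.isSimpleGroup (by simp)
          haveI : (A.subgroupOf Y).Normal := ⟨fun b hb y => (Subgroup.mem_normalizer_iff.1 (hY' y y.2).1 (b : K)).1 hb⟩
          rcases (Subgroup.Normal.map (inferInstance : (A.subgroupOf Y).Normal) g hg).eq_bot_or_eq_top with e | e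
          · have : ga ∈ (A.subgroupOf Y).map g := ⟨⟨(a : K), hAY a.2⟩, a.2, rfl⟩
            rwa [e, Subgroup.mem_bot] at this
          · exfalso
            have h := Subgroup.card_map_dvd (A.subgroupOf Y) g
            rw [e, Subgroup.card_top, h360, Nat.card_congr (Subgroup.subgroupOfEquivOfLe hAY).toEquiv, o.card] at h
            omega
        exact ⟨⟨⟨⟨(a : K), hAY a.2⟩, hv _ a.2⟩, hga⟩, Subtype.ext rfl⟩
    have h1 := f.ker.card_mul_index
    rw [Subgroup.index_ker, hfk] at h1
    have h2 := S.card_mul_index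
    rw [hS, MulAction.index_stabilizer, hYc, ← hS] at h2
    have h3 := f.range.card_mul_index
    rw [h360] at h3
    have hidx : (MulAction.orbit ↥Y v).ncard = 3 * f.range.index := by
      refine Nat.eq_of_mul_eq_mul_left (show 0 < Nat.card ↥S from Nat.card_pos) ?_
      rw [h2, ← h1, show 16 * Nat.card ↥f.range * (3 * f.range.index) = 48 * (Nat.card ↥f.range * f.range.index) by ring,
        h3]
    have h9 := index_ne_nine f.range
    -- no fixed line
    have h1ne : f.range.index ≠ 1 := by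
      intro e
      obtain ⟨y, hy, m1, m2, m3⟩ := o.core.other_moves o.cen o.dat o.le o.elem o.card (fun y hy => (hY' y hy).2)
        hYc hAY hnY (fun y hy a ha => (Subgroup.mem_normalizer_iff.1 (hY' y hy).1 a).1 ha) o.count (hsing v hv) hv0 hv
      obtain ⟨y', hy'⟩ : g ⟨y, hy⟩ ∈ f.range := by rw [Subgroup.index_eq_one.1 e]; exact Subgroup.mem_top _
      obtain ⟨a, ha, hw⟩ := hk ((y' : ↥Y)⁻¹ * ⟨y, hy⟩) (by
        rw [map_mul, map_inv, show g (y' : ↥Y) = f y' from rfl, hy', inv_mul_cancel])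
      replace hw : a⁻¹ * (((y' : ↥Y) : K)⁻¹ * y) ∈ Subgroup.zpowers n := hw
      have hy'v : ((y' : ↥Y) : K) • v = v := y'.2
      have hy'M := (hY' _ (y' : ↥Y).2).2
      obtain ⟨w, hw', hye⟩ : ∃ w ∈ Subgroup.zpowers n, y = ((y' : ↥Y) : K) * (a * w) :=
        ⟨_, hw, by simp [mul_assoc]⟩
      have hc : ∀ u : V, ((y' : ↥Y) : K) • n • u = n • ((y' : ↥Y) : K) • u := fun u => by
        rw [← mul_smul, o.core.commute hy'M, mul_smul]
      have hav : ∀ u : V, u ∈ (fixSub A : AddSubgroup V) → a • u = u := fun u hu => hu a ha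
      rcases o.core.zn_cases hw' with e | e | e <;> rw [hye, e] at m1 m2 m3
      · rw [mul_one, mul_smul, hav v hv, hy'v] at m1; exact m1 rfl
      · rw [mul_smul, mul_smul, hav _ (hnF v hv), hc, hy'v] at m2; exact m2 rfl
      · rw [mul_smul, mul_smul, mul_smul n, hav _ (hnF _ (hnF v hv)), hc, hc, hy'v] at m3; exact m3 rfl
    -- the index is at least six
    have hsix : 6 ≤ f.range.index := by
      haveI : IsSimpleGroup ↥(alternatingGroup (Fin 6)) := alternatingGroup.isSimpleGroup (by simp)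
      by_contra hlt
      have hne : f.range ≠ ⊤ := fun e => h1ne (Subgroup.index_eq_one.2 e)
      have hcore : f.range.normalCore = ⊥ := (Subgroup.normalCore_normal f.range).eq_bot_or_eq_top.resolve_right
        fun e => hne (top_le_iff.1 (e ▸ Subgroup.normalCore_le _))
      haveI := Fintype.ofFinite (↥(alternatingGroup (Fin 6)) ⧸ f.range)
      have hinj := Nat.card_le_card_of_injective (MulAction.toPermHom ↥(alternatingGroup (Fin 6))
        (↥(alternatingGroup (Fin 6)) ⧸ f.range)) ((MonoidHom.ker_eq_bot_iff _).1 (by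
          rw [← Subgroup.normalCore_eq_ker]; exact hcore))
      rw [h360, Nat.card_perm, ← Subgroup.index] at hinj
      have := Nat.factorial_le (show f.range.index ≤ 5 by omega)
      norm_num at this
      omega
    have hdvd : f.range.index ∣ 360 := Dvd.intro_left _ h3
    rw [hidx] at h63 ⊢
    generalize f.range.index = k at *
    have : k ≤ 21 := by omega
    interval_cases k <;> first | decide | omega | (norm_num at hdvd)
  -- invariant sets
  have hreach : ∀ (k : ℕ) (S : Set V), S.ncard = k → S ⊆ ((fixSub A : AddSubgroup V) : Set V) \ {0} →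
      (∀ y ∈ Y, ∀ v ∈ S, y • v ∈ S) → k ∈ reach := by
    intro k
    induction k using Nat.strong_induction_on with
    | _ k ih =>
      intro S hk hS hinv
      rcases Set.eq_empty_or_nonempty S with h0 | ⟨v, hv⟩
      · rw [h0, Set.ncard_empty] at hk
        rw [← hk]; decide
      · have hsub : MulAction.orbit ↥Y v ⊆ S := by rintro _ ⟨y, rfl⟩; exact hinv y y.2 v hv
        have ho := horb v (hS hv).1 (hS hv).2
        have hd := Set.ncard_sdiff_add_ncard_of_subset hsub (Set.toFinite _)
        have hpos : 0 < (MulAction.orbit ↥Y v).ncard := (Set.ncard_pos (Set.toFinite _)).2 ⟨v, MulAction.mem_orbit_self v⟩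
        have h := ih (S \ MulAction.orbit ↥Y v).ncard (by omega) _ rfl (Set.sdiff_subset.trans hS) fun y hy u hu =>
          ⟨hinv y hy u hu.1, fun ⟨y', hy'⟩ => hu.2 ⟨(⟨y, hy⟩ : ↥Y)⁻¹ * y', by
            show ((⟨y, hy⟩ : ↥Y)⁻¹ * y') • v = u
            rw [mul_smul, show y' • v = (⟨y, hy⟩ : ↥Y) • u from hy', inv_smul_smul]⟩⟩
        have h63 : S.ncard ≤ 63 := by
          refine (Set.ncard_le_ncard hS (Set.toFinite _)).trans ?_
          rw [Set.ncard_sdiff (by simp), Set.ncard_singleton, ← Nat.card_coe_set_eq, SetLike.coe_sort_coe, hF64]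
        rw [← hk, ← hd, add_comm]
        exact reach_add _ ho _ h (by omega)
  set S := {v : V | v ∈ (fixSub A : AddSubgroup V) ∧ v ≠ 0 ∧ v ∈ MulAction.orbit K s}
  set T := {v : V | v ∈ (fixSub A : AddSubgroup V) ∧ v ≠ 0 ∧ v ∉ MulAction.orbit K s}
  have hne : ∀ y : K, ∀ v : V, v ≠ 0 → y • v ≠ 0 := fun y v hv e => hv (MulAction.injective y (e.trans (smul_zero _).symm))
  have hS := hreach _ S rfl (fun v hv => ⟨hv.1, hv.2.1⟩) fun y hy v hv =>
    ⟨hYF y hy v hv.1, hne y v hv.2.1, by
      obtain ⟨k, hk⟩ := hv.2.2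
      exact ⟨y * k, (mul_smul y k s).trans (congrArg (y • ·) hk)⟩⟩
  have hT := hreach _ T rfl (fun v hv => ⟨hv.1, hv.2.1⟩) fun y hy v hv =>
    ⟨hYF y hy v hv.1, hne y v hv.2.1, fun ⟨k, hk⟩ => hv.2.2 ⟨y⁻¹ * k, by
      show (y⁻¹ * k) • s = v
      rw [mul_smul, show k • s = y • v from hk, inv_smul_smul]⟩⟩
  have hsum : S.ncard + T.ncard = 63 := by
    rw [← Set.ncard_union_eq ?_ (Set.toFinite _) (Set.toFinite _)]
    · rw [show S ∪ T = ((fixSub A : AddSubgroup V) : Set V) \ {0} from Set.ext fun v => by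
        by_cases h : v ∈ MulAction.orbit K s <;> simp [S, T, h]]
      rw [Set.ncard_sdiff (by simp), Set.ncard_singleton, ← Nat.card_coe_set_eq, SetLike.coe_sort_coe, hF64]
    · exact Set.disjoint_left.2 fun v hv hv' => hv'.2.2 hv.2.2
  have hS0 : 0 < S.ncard := by
    obtain ⟨v, hv⟩ := o.exists_central_fixed
    exact (Set.ncard_pos (Set.toFinite _)).2 ⟨v, hv⟩
  simp only [reach, List.mem_cons, List.not_mem_nil, or_false] at hS hT ⊢
  omega

end Other

end CfsgLib.LargeFischer.Thompson
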