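import Cfsg.Agent.Lib.LargeFischer.Count

/-!
# No group of order `2047 * 138240` of automorphisms of a space of order `2^11`
-/

set_option autoImplicit false
set_option linter.style.haveILetI false

namespace CfsgLib.LargeFischer.Thompson

variable {W : Type*} [AddCommGroup W] [Module (ZMod 2) W] [Finite W]

theorem mod_cases : ∀ j ∈ List.range 12, 2 ^ j % 89 = 1 → j = 0 ∨ j = 11 := by decide

theorem mult_table : ∀ n ∈ [1, 90, 2760], ∀ N ∈ [282977280, 3144192, 102528], n * N = 282977280 →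
    88 * (23 * 89) < N ∨ (¬ 23 ∣ N ∧ 88 * 89 < N) := by decide

theorem no_eightyNine (hW : Nat.card W = 2 ^ 11) (X : Subgroup (W ≃ₗ[ZMod 2] W))
    (hX : Nat.card ↥X = 282977280) : False := by
  classical
  haveI : Fact (Nat.Prime 89) := ⟨by norm_num⟩
  haveI : Finite (W ≃ₗ[ZMod 2] W) := Finite.of_injective (fun e => (e : W → W)) DFunLike.coe_injective
  have hcount : ∀ (r : ℕ) [Fact r.Prime] (g : W ≃ₗ[ZMod 2] W) (S : AddSubgroup W),
      orderOf g = r → (∀ v ∈ S, g v ∈ S) → ({v : W | v ∈ S ∧ g v = v}).ncard ≡ Nat.card ↥S [MOD r] := by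
    intro r hr g S hg hS
    have hall : ∀ k : ℕ, ∀ v ∈ S, (g ^ k) v ∈ S := by
      intro k
      induction k with
      | zero => exact fun v hv => hv
      | succ k ih => exact fun v hv => by rw [pow_succ']; exact hS _ (ih v hv)
    have hmem : ∀ y ∈ Subgroup.zpowers g, ∀ v ∈ S, y v ∈ S := by
      intro y hy v hv
      obtain ⟨k, rfl⟩ := (isOfFinOrder_of_finite g).mem_powers_iff_mem_zpowers.2 hy
      exact hall k v hv
    letI : MulAction ↥(Subgroup.zpowers g) ↥S :=
      { smul := fun y v => ⟨(y : W ≃ₗ[ZMod 2] W) v, hmem y y.2 v v.2⟩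
        one_smul := fun v => rfl
        mul_smul := fun a b v => rfl }
    have hp : IsPGroup r ↥(Subgroup.zpowers g) := IsPGroup.of_card (n := 1) (by rw [Nat.card_zpowers, hg, pow_one])
    have h := hp.card_modEq_card_fixedPoints ↥S
    refine (Nat.ModEq.trans ?_ h.symm)
    rw [← Nat.card_coe_set_eq]
    refine congrArg (· % r) (Nat.card_congr
      { toFun := fun v => ⟨⟨v.1, v.2.1⟩, fun y => Subtype.ext ?_⟩
        invFun := fun v => ⟨(v.1 : W), v.1.2, congrArg Subtype.val (v.2 ⟨g, Subgroup.mem_zpowers g⟩)⟩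
        left_inv := fun v => rfl
        right_inv := fun v => rfl })
    obtain ⟨k, hk⟩ := (isOfFinOrder_of_finite g).mem_powers_iff_mem_zpowers.2 y.2
    show (y : W ≃ₗ[ZMod 2] W) v.1 = v.1
    rw [← hk]
    clear hk
    induction k with
    | zero => rfl
    | succ k ih => show (g ^ (k + 1)) v.1 = v.1; rw [pow_succ']; show g ((g ^ k) v.1) = v.1; rw [ih, v.2.2]
  let fix : (W ≃ₗ[ZMod 2] W) → AddSubgroup W := fun g =>
    { carrier := {v | g v = v}
      zero_mem' := map_zero g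
      add_mem' := fun {a b} ha hb => by show g (a + b) = a + b; rw [map_add, ha, hb]
      neg_mem' := fun {a} ha => by show g (-a) = -a; rw [map_neg, ha] }
  have hpow : ∀ S : AddSubgroup W, ∃ j, j ≤ 11 ∧ Nat.card ↥S = 2 ^ j := fun S =>
    (Nat.dvd_prime_pow Nat.prime_two).1 (hW ▸ AddSubgroup.card_addSubgroup_dvd_card S)
  obtain ⟨x, hx⟩ := exists_prime_orderOf_dvd_card' (G := ↥X) 89 (by rw [hX]; norm_num)
  set g := (x : W ≃ₗ[ZMod 2] W) with hg
  have hg89 : orderOf g = 89 := by rw [hg, Subgroup.orderOf_coe, hx]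
  -- invariant subspaces of the element of order eighty-nine
  have hinv : ∀ S : AddSubgroup W, (∀ v ∈ S, g v ∈ S) → S = ⊥ ∨ S = ⊤ ∨ ∃ v ∈ S, v ≠ 0 ∧ g v = v := by
    intro S hS
    obtain ⟨j, hj, hjc⟩ := hpow S
    by_cases h : ∃ v ∈ S, v ≠ 0 ∧ g v = v
    · exact .inr (.inr h)
    · have e : {v : W | v ∈ S ∧ g v = v} = {0} := Set.ext fun v =>
        ⟨fun hv => by_contra fun h0 => h ⟨v, hv.1, h0, hv.2⟩, fun hv => by
          rw [Set.mem_singleton_iff.1 hv]; exact ⟨S.zero_mem, map_zero g⟩⟩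
      have hm := hcount 89 g S hg89 hS
      rw [e, Set.ncard_singleton, hjc] at hm
      rcases mod_cases j (List.mem_range.2 (by omega)) hm.symm with rfl | rfl
      · exact .inl (AddSubgroup.card_eq_one.1 hjc)
      · exact .inr (.inl (AddSubgroup.eq_top_of_card_eq S (hjc.trans hW.symm)))
  have hfixg : fix g = ⊥ := by
    obtain ⟨j, hj, hjc⟩ := hpow (fix g)
    have hm := hcount 89 g ⊤ hg89 (fun _ _ => AddSubgroup.mem_top _)
    rw [show {v : W | v ∈ (⊤ : AddSubgroup W) ∧ g v = v} = ((fix g : AddSubgroup W) : Set W) from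
      Set.ext fun v => ⟨fun h => h.2, fun h => ⟨AddSubgroup.mem_top v, h⟩⟩, ← Nat.card_coe_set_eq,
      SetLike.coe_sort_coe, hjc, AddSubgroup.card_top, hW] at hm
    rcases mod_cases j (List.mem_range.2 (by omega)) (hm.trans (show 2 ^ 11 ≡ 1 [MOD 89] by decide)) with rfl | rfl
    · exact AddSubgroup.card_eq_one.1 hjc
    · exfalso
      have he := AddSubgroup.eq_top_of_card_eq (fix g) (hjc.trans hW.symm)
      have : g = 1 := LinearEquiv.ext fun v => (he ▸ AddSubgroup.mem_top v : v ∈ fix g)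
      rw [this, orderOf_one] at hg89
      omega
  set C := Subgroup.centralizer ({x} : Set ↥X) with hC
  have hsmall : ∀ r : ℕ, (r = 2 ∨ r = 3 ∨ r = 5) → ¬ r ∣ Nat.card ↥C := by
    intro r hr hdvd
    haveI : Fact r.Prime := ⟨by rcases hr with rfl | rfl | rfl <;> norm_num⟩
    obtain ⟨y, hy⟩ := exists_prime_orderOf_dvd_card' (G := ↥C) r hdvd
    set h := ((y : ↥X) : W ≃ₗ[ZMod 2] W) with hh
    have hho : orderOf h = r := by rw [hh, Subgroup.orderOf_coe, Subgroup.orderOf_coe, hy]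
    have hcomm : ∀ v, g (h v) = h (g v) := fun v => by
      have e : (y : ↥X) * x = x * (y : ↥X) := Subgroup.mem_centralizer_singleton_iff.1 y.2
      exact (LinearEquiv.congr_fun (congrArg Subtype.val e) v).symm
    have hF : ∀ v ∈ fix h, g v ∈ fix h := fun v hv => by
      show h (g v) = g v
      rw [← hcomm, show h v = v from hv]
    rcases hinv (fix h) hF with e | e | ⟨v, -, hv0, hv⟩
    · have hm := hcount r h ⊤ hho (fun _ _ => AddSubgroup.mem_top _)
      rw [show {v : W | v ∈ (⊤ : AddSubgroup W) ∧ h v = v} = ((fix h : AddSubgroup W) : Set W) from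
        Set.ext fun v => ⟨fun h => h.2, fun h => ⟨AddSubgroup.mem_top v, h⟩⟩, ← Nat.card_coe_set_eq,
        SetLike.coe_sort_coe, e, AddSubgroup.card_bot, AddSubgroup.card_top, hW] at hm
      rcases hr with rfl | rfl | rfl <;> exact absurd hm (by decide)
    · have : h = 1 := LinearEquiv.ext fun v => (e ▸ AddSubgroup.mem_top v : v ∈ fix h)
      rw [this, orderOf_one] at hho
      rcases hr with rfl | rfl | rfl <;> omega
    · exact hv0 ((hfixg.le (show v ∈ fix g from hv)))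
  have hCd : Nat.card ↥C ∣ 23 * 89 := by
    have h : Nat.card ↥C ∣ 2 ^ 10 * 3 ^ 3 * 5 * (23 * 89) := by
      have := Subgroup.card_subgroup_dvd_card C
      rw [hX] at this
      norm_num at this ⊢
      exact this
    refine Nat.Coprime.dvd_of_dvd_mul_left ?_ h
    refine Nat.Coprime.mul_right (Nat.Coprime.mul_right (Nat.Coprime.pow_right _ ?_) (Nat.Coprime.pow_right _ ?_)) ?_
    all_goals rw [Nat.coprime_comm, Nat.Prime.coprime_iff_not_dvd (by norm_num)]
    exacts [hsmall 2 (by norm_num), hsmall 3 (by norm_num), hsmall 5 (by norm_num)]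
  set Z := Subgroup.zpowers x with hZ
  set N := Subgroup.normalizer (Z : Set ↥X) with hN
  have hNC : Nat.card ↥N ≤ Nat.card ↥C * 88 := by
    have hle : C ⊓ N ≤ N := inf_le_right
    have h := ((C ⊓ N).subgroupOf N).card_mul_index
    rw [Nat.card_congr (Subgroup.subgroupOfEquivOfLe hle).toEquiv] at h
    rw [← h]
    refine Nat.mul_le_mul (Nat.le_of_dvd Nat.card_pos (Subgroup.card_dvd_of_le inf_le_left)) ?_
    letI : MulAction ↥N ↥X :=
      { smul := fun a y => (a : ↥X) * y * (a : ↥X)⁻¹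
        one_smul := fun y => show ((1 : ↥N) : ↥X) * y * ((1 : ↥N) : ↥X)⁻¹ = y by simp
        mul_smul := fun a b y => show ((a * b : ↥N) : ↥X) * y * ((a * b : ↥N) : ↥X)⁻¹ =
          (a : ↥X) * ((b : ↥X) * y * (b : ↥X)⁻¹) * (a : ↥X)⁻¹ by simp [mul_assoc] }
    have hst : (C ⊓ N).subgroupOf N = MulAction.stabilizer ↥N x := by
      ext a
      show (a : ↥X) ∈ C ⊓ N ↔ (a : ↥X) * x * (a : ↥X)⁻¹ = x
      rw [mul_inv_eq_iff_eq_mul, hC, Subgroup.mem_inf, Subgroup.mem_centralizer_singleton_iff]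
      exact ⟨fun h => h.1, fun h => ⟨h, a.2⟩⟩
    rw [hst, MulAction.index_stabilizer]
    have hsub : MulAction.orbit ↥N x ⊆ (Z : Set ↥X) \ {1} := by
      rintro _ ⟨a, rfl⟩
      refine ⟨(Subgroup.mem_normalizer_iff.1 a.2 x).1 (Subgroup.mem_zpowers x), fun e => ?_⟩
      rw [conj_eq_one_iff.1 (show (a : ↥X) * x * (a : ↥X)⁻¹ = 1 from e), orderOf_one] at hx
      omega
    refine (Set.ncard_le_ncard hsub (Set.toFinite _)).trans ?_
    rw [Set.ncard_sdiff (by simp), Set.ncard_singleton, ← Nat.card_coe_set_eq, SetLike.coe_sort_coe, hZ,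
      Nat.card_zpowers, hx]
  obtain ⟨P, hP⟩ := (IsPGroup.of_card (n := 1) (show Nat.card ↥Z = 89 ^ 1 by
    rw [hZ, Nat.card_zpowers, hx, pow_one])).exists_le_sylow
  have hPc : Nat.card ↥(P : Subgroup ↥X) = 89 := by
    obtain ⟨k, hk⟩ := IsPGroup.iff_card.1 P.2
    have hd : 89 ^ k ∣ 282977280 := hk ▸ hX ▸ Subgroup.card_subgroup_dvd_card _
    have h1 : 89 ∣ 89 ^ k := by
      rw [← hk]
      exact (dvd_of_eq (show 89 = Nat.card ↥Z by rw [hZ, Nat.card_zpowers, hx])).trans (Subgroup.card_dvd_of_le hP)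
    rw [hk]
    rcases k with _ | _ | k
    · norm_num at h1
    · norm_num
    · have h2 : 89 ^ 2 ∣ 282977280 := (pow_dvd_pow 89 (by omega)).trans hd
      norm_num at h2
  have hZP : Z = (P : Subgroup ↥X) := Subgroup.eq_of_le_of_card_ge hP (by rw [hPc, hZ, Nat.card_zpowers, hx])
  have hn : Nat.card (Sylow 89 ↥X) = N.index := by
    rw [hN, hZP]
    exact Sylow.card_eq_index_normalizer P
  have hmul := N.card_mul_index
  rw [← hn, hX] at hmul
  have hmod := card_sylow_modEq_one 89 ↥X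
  have hdvd : Nat.card (Sylow 89 ↥X) ∣ 3179520 := by
    refine (Sylow.card_dvd_index P).trans ?_
    have h := (P : Subgroup ↥X).card_mul_index
    rw [hPc, hX] at h
    rw [show (P : Subgroup ↥X).index = 3179520 by omega]
  have hn3 : Nat.card (Sylow 89 ↥X) ∈ [1, 90, 2760] := by
    have h1 : Nat.card (Sylow 89 ↥X) ∣ 2 ^ 10 * (3 ^ 3 * (5 * 23)) := hdvd
    obtain ⟨a, c, ha, hc, e⟩ := Nat.dvd_mul.1 h1
    obtain ⟨a', c', ha', hc', rfl⟩ := Nat.dvd_mul.1 hc
    obtain ⟨i, hi, rfl⟩ := (Nat.dvd_prime_pow Nat.prime_two).1 ha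
    obtain ⟨j, hj, rfl⟩ := (Nat.dvd_prime_pow Nat.prime_three).1 ha'
    obtain ⟨a'', c'', ha'', hc'', rfl⟩ := Nat.dvd_mul.1 hc'
    rw [Nat.dvd_prime (by norm_num)] at ha'' hc''
    have hcert : ∀ i ∈ List.range 11, ∀ j ∈ List.range 4, ∀ u ∈ [1, 5], ∀ w ∈ [1, 23],
        2 ^ i * (3 ^ j * (u * w)) % 89 = 1 → 2 ^ i * (3 ^ j * (u * w)) ∈ [1, 90, 2760] := by
      decide +kernel
    rw [← e]
    refine hcert i (List.mem_range.2 (by omega)) j (List.mem_range.2 (by omega)) a'' ?_ c'' ?_ (by rw [e]; exact hmod)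
    · rcases ha'' with rfl | rfl <;> simp
    · rcases hc'' with rfl | rfl <;> simp
  have hN3 : Nat.card ↥N ∈ [282977280, 3144192, 102528] := by
    simp only [List.mem_cons, List.not_mem_nil, or_false] at hn3 ⊢
    rcases hn3 with e | e | e <;> rw [e] at hmul <;> omega
  have hCb : Nat.card ↥C ≤ 23 * 89 := Nat.le_of_dvd (by norm_num) hCd
  rcases mult_table _ hn3 _ hN3 (by rw [mul_comm]; exact hmul) with h | ⟨h23, h⟩
  · omega
  · have hCN : C ≤ N := by
      rw [hC, hN, hZ]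
      intro a ha
      rw [Subgroup.mem_normalizer_iff_map_conj_eq, MonoidHom.map_zpowers]
      refine congrArg Subgroup.zpowers ?_
      show a * x * a⁻¹ = x
      rw [Subgroup.mem_centralizer_singleton_iff.1 ha, mul_inv_cancel_right]
    have h23' : ¬ 23 ∣ Nat.card ↥C := fun e => h23 (e.trans (Subgroup.card_dvd_of_le hCN))
    have : Nat.card ↥C ∣ 89 :=
      Nat.Coprime.dvd_of_dvd_mul_left (Nat.coprime_comm.1 ((Nat.Prime.coprime_iff_not_dvd (by norm_num)).2 h23')) hCd
    have := Nat.le_of_dvd (by norm_num) this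
    omega

end CfsgLib.LargeFischer.Thompson
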