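import Cfsg.Agent.Lib.LargeFischer.Thompson.Local
import Cfsg.Agent.Lib.LargeFischer.Thompson.Lines
import Cfsg.Agent.Lib.LargeFischer.Thompson.NoEightyNine

/-!
# The conjugates of the central involution in the elementary group
-/

set_option autoImplicit false
set_option linter.unusedSectionVars false
set_option linter.style.haveILetI false
set_option maxHeartbeats 1600000

namespace CfsgLib.LargeFischer.Thompson

open Subgroup QuadraticMap
open CfsgLib.Schur.Tails.UFour (H4)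

/-- The candidates for the number of conjugates of the central involution. -/
theorem count_table : ∀ k ∈ List.range 9, ∀ c ∈ [18, 45, 63], (1 + 2 * c + 240 * k) * 138240 ∣
    (∏ i ∈ Finset.range 11, (2 ^ 11 - 2 ^ i)) → (c = 45 ∧ k = 7) ∨ (c = 63 ∧ (k = 0 ∨ k = 8)) := by
  decide +kernel

variable {G : Type*} [Group G] [Finite G] {z : G}
  {Q : Subgroup (centralizer ({z} : Set G))} [Q.Normal] {V : Type*} [AddCommGroup V] [Module (ZMod 2) V]
  [DistribMulAction ((centralizer ({z} : Set G)) ⧸ Q) V] [Finite V] {q : QuadraticForm (ZMod 2) V} {π : ↥Q → V}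
  {n : (centralizer ({z} : Set G)) ⧸ Q} {M : Subgroup ((centralizer ({z} : Set G)) ⧸ Q)} {φ : ↥M →* ↥H4}
  {s : V} {E : Subgroup ((centralizer ({z} : Set G)) ⧸ Q)} {D : AddSubgroup V}
  {A : Subgroup G} {Ab : Subgroup ((centralizer ({z} : Set G)) ⧸ Q)}

/-- The part of the elementary group in `Q`. -/
def inner (Q : Subgroup (centralizer ({z} : Set G))) (A : Subgroup G) : Set G :=
  {a | a ∈ A ∧ ∃ u : ↥Q, val u = a}

/-- The part outside `Q`. -/
def outer (Q : Subgroup (centralizer ({z} : Set G))) (A : Subgroup G) : Set G :=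
  {a | a ∈ A ∧ ¬ ∃ u : ↥Q, val u = a}

/-- The conjugates of the central involution in the elementary group. -/
def Zs (z : G) (A : Subgroup G) : Set G := {a | a ∈ A ∧ IsConj z a}

/-- The central vectors of the fixed space. -/
def cset (Ab : Subgroup ((centralizer ({z} : Set G)) ⧸ Q)) (s : V) : Set V :=
  {v : V | v ∈ (fixSub Ab : AddSubgroup V) ∧ v ≠ 0 ∧ v ∈ MulAction.orbit ((centralizer ({z} : Set G)) ⧸ Q) s}

namespace Ctx

variable (c : Ctx Q q π n M φ s E D A Ab)
include c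

theorem inner_iff {a : G} (ha : a ∈ A) :
    (∃ u : ↥Q, val u = a) ↔ QuotientGroup.mk' Q ⟨a, c.le ha⟩ = 1 := by
  refine ⟨fun ⟨u, hu⟩ => (QuotientGroup.eq_one_iff _).2 ?_, fun h => ⟨⟨_, (QuotientGroup.eq_one_iff _).1 h⟩, rfl⟩⟩
  rw [show (⟨a, c.le ha⟩ : centralizer ({z} : Set G)) = (u : centralizer ({z} : Set G)) from Subtype.ext hu.symm]
  exact u.2

theorem im_inj {a : G} (ha : a ∈ A) {u u' : ↥Q} (e : a * val u = a * val u') : u = u' :=
  Subtype.ext (Subtype.ext (mul_left_cancel e))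

/-- Orbits of `Q` outside `Q` have at least sixteen elements. -/
theorem q_orbit_dvd {a : G} (ha : a ∈ A) (h1 : QuotientGroup.mk' Q ⟨a, c.le ha⟩ ≠ 1) :
    16 ∣ ({b : G | ∃ u : ↥Q, val u * a * (val u)⁻¹ = b}).ncard := by
  classical
  letI : MulAction ↥Q G :=
    { smul := fun u b => val u * b * (val u)⁻¹
      one_smul := fun b => show val (1 : ↥Q) * b * (val (1 : ↥Q))⁻¹ = b by simp [val]
      mul_smul := fun u w b => show val (u * w) * b * (val (u * w))⁻¹ = val u * (val w * b * (val w)⁻¹) * (val u)⁻¹ by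
        simp [val, mul_assoc] }
  set k := QuotientGroup.mk' Q ⟨a, c.le ha⟩
  have horb : ({b : G | ∃ u : ↥Q, val u * a * (val u)⁻¹ = b}) = MulAction.orbit ↥Q a := rfl
  have hbig : 16 ≤ (MulAction.orbit ↥Q a).ncard := by
    have hr : 16 ≤ Nat.card ↥(rg k : AddSubgroup V) := by
      rcases c.oth.rg_card (c.mk_mem (w := ⟨a, c.le ha⟩) ha) h1 with e | e <;> rw [e]
      norm_num
    refine hr.trans ?_
    rw [← Nat.card_coe_set_eq]
    choose f hf using fun v : ↥(rg k : AddSubgroup V) => (v.2 : ∃ w : V, k • w + w = (v : V))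
    choose g hg using c.mdl.surj
    refine Nat.card_le_card_of_injective (fun v => (⟨val (g (f v)) * a * (val (g (f v)))⁻¹, ⟨g (f v), rfl⟩⟩ :
      ↥(MulAction.orbit ↥Q a))) fun v v' e => ?_
    obtain ⟨u, -, hu, hpu⟩ := c.comm_q ha (g (f v))
    obtain ⟨u', -, hu', hpu'⟩ := c.comm_q ha (g (f v'))
    have e' : a * val u = a * val u' := hu.symm.trans ((congrArg Subtype.val e).trans hu')
    rw [hg] at hpu hpu'
    exact Subtype.ext ((hf v).symm.trans (hpu.symm.trans
      ((congrArg π (c.im_inj ha e')).trans (hpu'.trans (hf v')))))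
  have hdvd : (MulAction.orbit ↥Q a).ncard ∣ 2 ^ (2 * 6 + 1) := by
    rw [← MulAction.index_stabilizer, ← c.hF.1.2.2.2.1]
    exact index_dvd_card _
  obtain ⟨j, -, hj⟩ := (Nat.dvd_prime_pow Nat.prime_two).1 hdvd
  rw [hj] at hbig
  rw [horb, hj]
  have : 4 ≤ j := by
    by_contra h
    have : 2 ^ j ≤ 2 ^ 3 := Nat.pow_le_pow_right (by norm_num) (by omega)
    omega
  exact pow_dvd_pow 2 this

/-- Invariant sets outside `Q`. -/
theorem outer_dvd {S : Set G} (hS : S ⊆ outer Q A)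
    (hinv : ∀ m ∈ Subgroup.normalizer (A : Set G) ⊓ centralizer ({z} : Set G), ∀ a ∈ S, m * a * m⁻¹ ∈ S) :
    240 ∣ S.ncard := by
  classical
  letI := Fintype.ofFinite G
  set K := (centralizer ({z} : Set G)) ⧸ Q
  let im : ↥S → K := fun a => QuotientGroup.mk' Q ⟨(a : G), c.le (hS a.2).1⟩
  have him : ∀ a : ↥S, im a ∈ Ab ∧ im a ≠ 1 := fun a =>
    ⟨c.mk_mem (w := ⟨(a : G), c.le (hS a.2).1⟩) (hS a.2).1, fun e => (hS a.2).2 ((c.inner_iff (hS a.2).1).2 e)⟩
  have hconst : ∀ k ∈ Ab, k ≠ 1 → ∀ k' ∈ Ab, k' ≠ 1 → Nat.card {a : ↥S // im a = k} ≤ Nat.card {a : ↥S // im a = k'} := by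
    intro k hk hk1 k' hk' hk'1
    obtain ⟨y, hyN, -, hy⟩ := c.oth.transitive hk hk1 hk' hk'1
    obtain ⟨w, rfl⟩ := QuotientGroup.mk'_surjective Q y
    have hwN : (w : G) ∈ Subgroup.normalizer (A : Set G) ⊓ centralizer ({z} : Set G) := ⟨c.mem_N_iff.2 hyN, w.2⟩
    refine Nat.card_le_card_of_injective (fun a => ⟨⟨(w : G) * (a.1 : G) * (w : G)⁻¹, hinv _ hwN _ a.1.2⟩, ?_⟩) ?_
    · show QuotientGroup.mk' Q ⟨(w : G) * (a.1 : G) * (w : G)⁻¹, _⟩ = k'
      refine (?_ : _ = QuotientGroup.mk' Q w * im a.1 * (QuotientGroup.mk' Q w)⁻¹).trans (by rw [a.2, hy])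
      show _ = QuotientGroup.mk' Q w * QuotientGroup.mk' Q _ * (QuotientGroup.mk' Q w)⁻¹
      rw [← map_inv, ← map_mul, ← map_mul]
      rfl
    · intro a b e
      have e' : (w : G) * (a.1 : G) * (w : G)⁻¹ = (w : G) * (b.1 : G) * (w : G)⁻¹ :=
        congrArg (fun t : {a : ↥S // im a = k'} => (t.1 : G)) e
      exact Subtype.ext (Subtype.ext (mul_left_cancel (mul_right_cancel e')))
  have h16 : ∀ k : K, k ≠ 1 → 16 ∣ Nat.card {a : ↥S // im a = k} := by
    intro k hk
    letI : MulAction ↥Q {a : ↥S // im a = k} :=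
      { smul := fun u a => ⟨⟨val u * (a.1 : G) * (val u)⁻¹, hinv _ (mem_inf.2 ⟨c.q_mem_N u, (u : centralizer ({z} : Set G)).2⟩) _ a.1.2⟩, by
          show QuotientGroup.mk' Q ⟨val u * (a.1 : G) * (val u)⁻¹, _⟩ = k
          refine Eq.trans ?_ a.2
          show QuotientGroup.mk' Q ((u : centralizer ({z} : Set G)) * ⟨(a.1 : G), c.le (hS a.1.2).1⟩ *
            (u : centralizer ({z} : Set G))⁻¹) = _
          rw [map_mul, map_mul, map_inv, show QuotientGroup.mk' Q (u : centralizer ({z} : Set G)) = 1 from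
            (QuotientGroup.eq_one_iff _).2 u.2, one_mul, inv_one, mul_one]⟩
        one_smul := fun a => Subtype.ext (Subtype.ext (show val (1 : ↥Q) * (a.1 : G) * (val (1 : ↥Q))⁻¹ = _ by simp [val]))
        mul_smul := fun u w a => Subtype.ext (Subtype.ext (show val (u * w) * (a.1 : G) * (val (u * w))⁻¹ =
          val u * (val w * (a.1 : G) * (val w)⁻¹) * (val u)⁻¹ by simp [val, mul_assoc])) }
    letI := Fintype.ofFinite (MulAction.orbitRel.Quotient ↥Q {a : ↥S // im a = k})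
    rw [Nat.card_congr (MulAction.selfEquivSigmaOrbits ↥Q {a : ↥S // im a = k}), Nat.card_sigma]
    refine Finset.dvd_sum fun ω _ => ?_
    set a := Quotient.out ω
    have ha := (hS a.1.2).1
    refine (c.q_orbit_dvd ha (by rw [show QuotientGroup.mk' Q ⟨(a.1 : G), c.le ha⟩ = k from a.2]; exact hk)).trans
      (dvd_of_eq ?_)
    have hset : {b : G | ∃ u : ↥Q, val u * (a.1 : G) * (val u)⁻¹ = b} =
        (fun b : {a : ↥S // im a = k} => (b.1 : G)) '' MulAction.orbit ↥Q a := by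
      ext b
      constructor
      · rintro ⟨u, rfl⟩; exact ⟨_, ⟨u, rfl⟩, rfl⟩
      · rintro ⟨_, ⟨u, rfl⟩, rfl⟩; exact ⟨u, rfl⟩
    rw [hset, Set.ncard_image_of_injective _ (fun b b' e => Subtype.ext (Subtype.ext e)), ← Nat.card_coe_set_eq]
  obtain ⟨k0, hk0, hk01⟩ : ∃ k ∈ Ab, k ≠ 1 := by
    by_contra hc
    push Not at hc
    have h := c.oth.card
    rw [(Subgroup.eq_bot_iff_forall Ab).2 hc, Subgroup.card_bot] at h
    omega
  obtain ⟨t, ht⟩ := h16 k0 hk01
  letI := Fintype.ofFinite {k : K // k ∈ Ab ∧ k ≠ 1}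
  let f : ↥S → {k : K // k ∈ Ab ∧ k ≠ 1} := fun a => ⟨im a, him a⟩
  have hfib : ∀ k : {k : K // k ∈ Ab ∧ k ≠ 1}, Nat.card {a : ↥S // f a = k} = 16 * t := fun k => by
    rw [← ht, Nat.card_congr (Equiv.subtypeEquivRight (fun a : ↥S => (Subtype.ext_iff : f a = k ↔ im a = (k : K))))]
    exact le_antisymm (hconst _ k.2.1 k.2.2 _ hk0 hk01) (hconst _ hk0 hk01 _ k.2.1 k.2.2)
  have h15 : Nat.card {k : K // k ∈ Ab ∧ k ≠ 1} = 15 := by
    have e : Nat.card ↥((Ab : Set K) \ {1}) = 15 := by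
      rw [Nat.card_coe_set_eq, Set.ncard_sdiff (by simp), Set.ncard_singleton, ← Nat.card_coe_set_eq,
        SetLike.coe_sort_coe, c.oth.card]
    exact e
  rw [← Nat.card_coe_set_eq, ← Nat.card_congr (Equiv.sigmaFiberEquiv f), Nat.card_sigma,
    Finset.sum_const_nat (m := 16 * t) (fun k _ => hfib k), Finset.card_univ, ← Nat.card_eq_fintype_card, h15]
  exact ⟨t, by ring⟩

theorem pre_ncard (S : Set V) : ({a : G | ∃ u : ↥Q, π u ∈ S ∧ val u = a}).ncard = 2 * S.ncard := by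
  classical
  choose g hg using c.mdl.surj
  obtain ⟨z₀, hz₀, hz0⟩ := c.z_val
  let f : Bool × ↥S → {a : G | ∃ u : ↥Q, π u ∈ S ∧ val u = a} := fun p =>
    ⟨val (g p.2 * cond p.1 z₀ 1), g p.2 * cond p.1 z₀ 1, by
      rw [c.mdl.pi_mul, hg]
      cases p.1
      · simp only [cond_false, c.mdl.pi_one, add_zero]; exact p.2.2
      · simp only [cond_true, hz0, add_zero]; exact p.2.2, rfl⟩
  have hf : Function.Bijective f := by
    constructor
    · rintro ⟨b, v⟩ ⟨b', v'⟩ e
      have e' : g v * cond b z₀ 1 = g v' * cond b' z₀ 1 :=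
        Subtype.ext (Subtype.ext (congrArg (fun t : {a : G | ∃ u : ↥Q, π u ∈ S ∧ val u = a} => (t : G)) e))
      have hv : v = v' := by
        have h := congrArg π e'
        simp only [c.mdl.pi_mul, hg] at h
        refine Subtype.ext ?_
        cases b <;> cases b' <;> simpa [hz0, c.mdl.pi_one] using h
      subst hv
      have hb := mul_left_cancel e'
      have hne : z₀ ≠ (1 : ↥Q) := fun h => c.z_ne (by rw [← hz₀, h]; rfl)
      cases b <;> cases b'
      · rfl
      · exact absurd hb.symm hne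
      · exact absurd hb hne
      · rfl
    · rintro ⟨a, u, hu, rfl⟩
      rcases c.mdl.pi_eq (x := g (π u)) (y := u) (hg _) with e | e
      · exact ⟨(false, ⟨π u, hu⟩), Subtype.ext (by simpa [f, val] using e.symm)⟩
      · exact ⟨(true, ⟨π u, hu⟩), Subtype.ext (by simpa [f, val, ← hz₀] using e.symm)⟩
  rw [← Nat.card_coe_set_eq, ← Nat.card_eq_of_bijective f hf, Nat.card_prod, Nat.card_coe_set_eq]
  simp

/-- A central vector comes from a conjugate. -/
theorem isConj_iff_orbit {u : ↥Q} (hu : π u ≠ 0) :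
    IsConj z (val u) ↔ π u ∈ MulAction.orbit ((centralizer ({z} : Set G)) ⧸ Q) s := by
  have hne : val u ≠ z := fun e => hu ((c.mdl.ker u).2 (.inr e))
  constructor
  · intro h
    exact c.oth.core.mem_orbit c.oth.cen (c.mdl.central_of_isConj c.hF h hne)
  · intro h
    obtain ⟨x, hx, hxne⟩ := c.mdl.exists_central c.hF
    have hxc := c.mdl.central_of_isConj c.hF hx hxne
    have hx' := c.oth.core.mem_orbit c.oth.cen hxc
    obtain ⟨w, hw⟩ := c.mdl.exists_conj c.hF (x := x) (y := u) hxc.ne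
      (by rw [MulAction.orbit_eq_iff.2 hx']; exact h)
    exact hx.trans (isConj_iff.2 ⟨(w : G), congrArg Subtype.val hw⟩)

/-- The conjugates inside `Q`. -/
theorem Zs_inner_ncard : (Zs z A ∩ inner Q A).ncard = 1 + 2 * (cset Ab s).ncard := by
  classical
  set W := {a : G | ∃ u : ↥Q, π u ∈ cset Ab s ∧ val u = a}
  have e : Zs z A ∩ inner Q A = insert z W := by
    ext a
    constructor
    · rintro ⟨⟨haA, hc⟩, -, u, rfl⟩
      by_cases h0 : π u = 0
      · rcases (c.mdl.ker u).1 h0 with e | e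
        · exfalso
          obtain ⟨g, hg⟩ := isConj_iff.1 hc
          rw [show val u = 1 from e] at hg
          exact c.z_ne (conj_eq_one_iff.1 hg)
        · exact Or.inl e
      · exact Or.inr ⟨u, ⟨(c.mem_Q u).1 haA, h0, (c.isConj_iff_orbit h0).1 hc⟩, rfl⟩
    · rintro (e | ⟨u, ⟨huF, h0, horb⟩, rfl⟩)
      · obtain ⟨z₀, hz₀, -⟩ := c.z_val
        rw [e]
        exact ⟨⟨c.z_mem, IsConj.refl z⟩, c.z_mem, z₀, hz₀⟩
      · exact ⟨⟨(c.mem_Q u).2 huF, (c.isConj_iff_orbit h0).2 horb⟩, (c.mem_Q u).2 huF, u, rfl⟩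
  rw [e, Set.ncard_insert_of_notMem, c.pre_ncard, add_comm]
  rintro ⟨u, hu, he⟩
  exact hu.2.1 ((c.mdl.ker u).2 (.inr he))

theorem orbit_stab : (Zs z A).ncard * (2 ^ 13 * 34560) = Nat.card ↥(Subgroup.normalizer (A : Set G)) := by
  set N := Subgroup.normalizer (A : Set G) with hN
  letI : MulAction ↥N G :=
    { smul := fun m b => (m : G) * b * (m : G)⁻¹
      one_smul := fun b => show ((1 : ↥N) : G) * b * ((1 : ↥N) : G)⁻¹ = b by simp
      mul_smul := fun m w b => show ((m * w : ↥N) : G) * b * ((m * w : ↥N) : G)⁻¹ =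
        (m : G) * ((w : G) * b * (w : G)⁻¹) * (m : G)⁻¹ by simp [mul_assoc] }
  have horb : MulAction.orbit ↥N z = Zs z A := by
    ext a
    constructor
    · rintro ⟨m, rfl⟩
      exact ⟨c.conj_mem m.2 c.z_mem, isConj_iff.2 ⟨(m : G), rfl⟩⟩
    · rintro ⟨ha, hc⟩
      obtain ⟨g, hg⟩ := isConj_iff.1 hc
      obtain ⟨m, hm, e⟩ := c.fusion c.z_mem (g := g) (hg ▸ ha)
      exact ⟨⟨m, hm⟩, e.trans hg⟩
  have hst : MulAction.stabilizer ↥N z = (N ⊓ centralizer ({z} : Set G)).subgroupOf N := by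
    ext m
    show (m : G) * z * (m : G)⁻¹ = z ↔ (m : G) ∈ N ⊓ centralizer ({z} : Set G)
    rw [mul_inv_eq_iff_eq_mul, mem_inf, mem_centralizer_singleton_iff]
    exact ⟨fun h => ⟨m.2, h⟩, fun h => h.2⟩
  have h := (MulAction.stabilizer ↥N z).card_mul_index
  rw [MulAction.index_stabilizer, horb, hst,
    Nat.card_congr (subgroupOfEquivOfLe (inf_le_left : N ⊓ centralizer ({z} : Set G) ≤ N)).toEquiv, c.NH_card] at h
  rw [mul_comm]
  exact h

/-- A second conjugate. -/
theorem exists_other_conj : ∃ u : ↥Q, val u ∈ A ∧ IsConj z (val u) ∧ val u ≠ z ∧ π u ≠ 0 := by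
  obtain ⟨v, hv, hv0, horb⟩ := c.oth.exists_central_fixed
  obtain ⟨u, rfl⟩ := c.mdl.surj v
  exact ⟨u, (c.mem_Q u).2 hv, (c.isConj_iff_orbit hv0).2 horb, fun e => hv0 ((c.mdl.ker u).2 (.inr e)), hv0⟩

/-- The part in `Q` is not invariant under the normaliser. -/
theorem inner_not_invariant :
    ¬ ∀ m ∈ Subgroup.normalizer (A : Set G), ∀ a ∈ inner Q A, m * a * m⁻¹ ∈ inner Q A := by
  intro hinv
  obtain ⟨x, hxA, hx, hxne, hx0⟩ := c.exists_other_conj
  obtain ⟨g, hg⟩ := isConj_iff.1 hx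
  obtain ⟨m, hm, e⟩ := c.fusion c.z_mem (g := g) (hg ▸ hxA)
  rw [hg] at e
  have hp := pairHyp_of c.hF (g := m) (e ▸ ⟨_, x.2, rfl⟩) (e ▸ hxne)
  obtain ⟨h1, D', hd', -, hD'⟩ := c.mdl.centData_full hp c.hF.1.2.2.2.1 (x := x) e.symm
  have hcen : Central q ((centralizer ({z} : Set G)) ⧸ Q) (π x) := ⟨h1, _, D', hd'⟩
  obtain ⟨-, hD64, h16, -⟩ := c.oth.core.data_cards hd'
  obtain ⟨-, hF64, hnF, -⟩ := c.oth.facts
  have hle : (fixSub Ab : AddSubgroup V) ≤ D' := by
    intro v hv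
    obtain ⟨u, rfl⟩ := c.mdl.surj v
    refine (hD' _).2 ⟨u, ?_, rfl⟩
    obtain ⟨-, w, hw⟩ := hinv m⁻¹ (inv_mem hm) (val u) ⟨(c.mem_Q u).2 hv, u, rfl⟩
    refine ⟨val w, ⟨_, w.2, rfl⟩, ?_⟩
    show m * val w * m⁻¹ = _
    rw [hw]; group
  have hDn : ∀ d ∈ D', n • d ∈ D' := by
    have heq : (fixSub Ab : AddSubgroup V) = D' := AddSubgroup.eq_of_le_of_card_ge hle (by rw [hF64, hD64])
    intro d hd
    rw [← heq] at hd ⊢
    exact hnF d hd
  obtain ⟨e1, he1, hne⟩ : ∃ k ∈ _ ⊓ M, k ≠ (1 : (centralizer ({z} : Set G)) ⧸ Q) := by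
    by_contra hc
    push Not at hc
    rw [(Subgroup.eq_bot_iff_forall _).2 hc, Subgroup.card_bot] at h16
    omega
  refine hne (hd'.faith e1 he1.1 fun d hd => ?_)
  by_contra hmv
  have e2 := (hd'.move e1 he1.1 d hd).resolve_left hmv
  have e3 : e1 • n • d = n • d + n • π x := by
    rw [← mul_smul, c.oth.core.commute he1.2, mul_smul, e2, smul_add]
  rcases hd'.move e1 he1.1 _ (hDn d hd) with h | h <;> rw [e3] at h
  · exact c.oth.core.smul_ne_zero c.oth.cen hx0 (add_eq_left.1 h)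
  · exact c.oth.core.smul_n_ne c.oth.cen hx0 (add_left_cancel h)

theorem inner_ncard : (inner Q A).ncard = 128 := by
  have e : inner Q A = {a : G | ∃ u : ↥Q, π u ∈ ((fixSub Ab : AddSubgroup V) : Set V) ∧ val u = a} := by
    ext a
    exact ⟨fun ⟨ha, u, hu⟩ => ⟨u, (c.mem_Q u).1 (hu ▸ ha), hu⟩,
      fun ⟨u, hu, e⟩ => ⟨e ▸ (c.mem_Q u).2 hu, u, e⟩⟩
  rw [e, c.pre_ncard, ← Nat.card_coe_set_eq, SetLike.coe_sort_coe, c.oth.facts.2.1]

theorem outer_ncard : (outer Q A).ncard = 1920 := by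
  have e : outer Q A = (A : Set G) \ inner Q A := by
    ext a
    exact ⟨fun h => ⟨h.1, fun h' => h.2 h'.2⟩, fun h => ⟨h.1, fun h' => h.2 ⟨h.1, h'⟩⟩⟩
  rw [e, Set.ncard_sdiff fun a ha => ha.1, c.inner_ncard, ← Nat.card_coe_set_eq, SetLike.coe_sort_coe, c.card]
  norm_num

theorem inf_invariant : ∀ m ∈ Subgroup.normalizer (A : Set G) ⊓ centralizer ({z} : Set G), ∀ a ∈ A,
    ((∃ u : ↥Q, val u = m * a * m⁻¹) ↔ ∃ u : ↥Q, val u = a) := by
  intro m hm a ha
  constructor <;> rintro ⟨u, hu⟩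
  · refine ⟨⟨_, (inferInstance : Q.Normal).conj_mem _ u.2 ⟨m⁻¹, inv_mem hm.2⟩⟩, ?_⟩
    show m⁻¹ * val u * m⁻¹⁻¹ = a
    rw [hu]; group
  · refine ⟨⟨_, (inferInstance : Q.Normal).conj_mem _ u.2 ⟨m, hm.2⟩⟩, ?_⟩
    show m * val u * m⁻¹ = m * a * m⁻¹
    rw [hu]

/-- The linear representation on the elementary group. -/
theorem exists_linear : (Zs z A).ncard * 138240 ∣ (∏ i ∈ Finset.range 11, (2 ^ 11 - 2 ^ i)) ∧
    (Zs z A).ncard ≠ 2047 := by
  letI iC : CommGroup ↥A := { (inferInstance : Group ↥A) with mul_comm := fun a b => c.elem.1.is_comm.comm a b }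
  letI : Module (ZMod 2) (Additive ↥A) := AddCommGroup.zmodModule fun a => by
    rw [two_nsmul]
    exact Additive.toMul.injective (Subtype.ext (c.sq (Additive.toMul a).2))
  set N := Subgroup.normalizer (A : Set G) with hN
  let act : ↥N → (Additive ↥A →+ Additive ↥A) := fun m => MonoidHom.toAdditive (MonoidHom.mk'
    (fun a => (⟨(m : G) * (a : G) * (m : G)⁻¹, c.conj_mem m.2 a.2⟩ : ↥A)) fun a b => Subtype.ext (by
      show (m : G) * ((a : G) * b) * (m : G)⁻¹ = (m : G) * a * (m : G)⁻¹ * ((m : G) * b * (m : G)⁻¹)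
      group))
  let ρ : ↥N →* (Additive ↥A ≃ₗ[ZMod 2] Additive ↥A) :=
    { toFun := fun m =>
        { (act m).toZModLinearMap 2 with
          invFun := act m⁻¹
          left_inv := fun a => Additive.toMul.injective (Subtype.ext (by
            show (m : G)⁻¹ * ((m : G) * _ * (m : G)⁻¹) * (m : G)⁻¹⁻¹ = _
            group))
          right_inv := fun a => Additive.toMul.injective (Subtype.ext (by
            show (m : G) * ((m : G)⁻¹ * _ * (m : G)⁻¹⁻¹) * (m : G)⁻¹ = _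
            group)) }
      map_one' := LinearEquiv.ext fun a => Additive.toMul.injective (Subtype.ext (by
        show ((1 : ↥N) : G) * _ * ((1 : ↥N) : G)⁻¹ = _
        simp))
      map_mul' := fun m w => LinearEquiv.ext fun a => Additive.toMul.injective (Subtype.ext (by
        show ((m * w : ↥N) : G) * _ * ((m * w : ↥N) : G)⁻¹ = (m : G) * ((w : G) * _ * (w : G)⁻¹) * (m : G)⁻¹
        simp [mul_assoc])) }
  have hker : ρ.ker = A.subgroupOf N := by
    ext m
    constructor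
    · intro h
      refine c.cent fun a ha => mul_inv_eq_iff_eq_mul.1 ?_
      exact congrArg (fun e : Additive ↥A ≃ₗ[ZMod 2] Additive ↥A => ((Additive.toMul (e (Additive.ofMul ⟨a, ha⟩)) : ↥A) : G))
        (MonoidHom.mem_ker.1 h)
    · intro h
      refine MonoidHom.mem_ker.2 (LinearEquiv.ext fun a => Additive.toMul.injective (Subtype.ext ?_))
      show (m : G) * _ * (m : G)⁻¹ = _
      exact mul_inv_eq_iff_eq_mul.2 (c.comm h (Additive.toMul a).2)
  have hAN : A ≤ N := le_normalizer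
  have h1 := ρ.ker.card_mul_index
  rw [index_ker, hker, Nat.card_congr (subgroupOfEquivOfLe hAN).toEquiv, c.card, ← c.orbit_stab] at h1
  have hW : Nat.card (Additive ↥A) = 2 ^ 11 := (Nat.card_congr Additive.toMul).trans c.card
  have hR : Nat.card ↥ρ.range = (Zs z A).ncard * 138240 := by omega
  refine ⟨?_, fun e => no_eightyNine hW ρ.range (by rw [hR, e])⟩
  rw [← hR, ← card_linear_group (V := Additive ↥A) (d := 11) (by
    have := card_eq_two_pow (V := Additive ↥A)
    rw [hW] at this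
    exact (Nat.pow_right_injective (le_refl 2) this).symm)]
  exact card_subgroup_dvd_card _

/-- There are 1771 conjugates of the central involution and forty-five central vectors. -/
theorem Zs_facts : (Zs z A).ncard = 1771 ∧ (cset Ab s).ncard = 45 := by
  classical
  obtain ⟨hd, h2047⟩ := c.exists_linear
  set NH := Subgroup.normalizer (A : Set G) ⊓ centralizer ({z} : Set G)
  have hinv : ∀ m ∈ NH, ∀ a ∈ Zs z A ∩ outer Q A, m * a * m⁻¹ ∈ Zs z A ∩ outer Q A := fun m hm a ha =>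
    ⟨⟨c.conj_mem hm.1 ha.1.1, ha.1.2.trans (isConj_iff.2 ⟨m, rfl⟩)⟩, c.conj_mem hm.1 ha.1.1,
      fun h => ha.2.2 ((c.inf_invariant m hm a ha.1.1).1 h)⟩
  obtain ⟨k, hk⟩ := c.outer_dvd Set.inter_subset_right hinv
  have hle := Set.ncard_le_ncard (Set.inter_subset_right : Zs z A ∩ outer Q A ⊆ _) (Set.toFinite _)
  rw [hk, c.outer_ncard] at hle
  have hsum : (Zs z A).ncard = 1 + 2 * (cset Ab s).ncard + 240 * k := by
    rw [← c.Zs_inner_ncard, ← hk, ← Set.ncard_union_eq ?_ (Set.toFinite _) (Set.toFinite _)]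
    · congr 1
      ext a
      constructor
      · intro ha
        by_cases h : ∃ u : ↥Q, val u = a
        · exact Or.inl ⟨ha, ha.1, h⟩
        · exact Or.inr ⟨ha, ha.1, h⟩
      · rintro (h | h) <;> exact h.1
    · exact Set.disjoint_left.2 fun a h h' => h'.2.2 h.2.2
  rw [hsum] at hd
  rcases count_table k (List.mem_range.2 (by omega)) _ c.oth.central_count_cases hd with
    ⟨h1, h2⟩ | ⟨h1, h2 | h2⟩
  · exact ⟨by rw [hsum, show (cset Ab s).ncard = 45 from h1, h2], h1⟩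
  · exfalso
    have hall : Zs z A = inner Q A \ {1} := by
      refine Set.eq_of_subset_of_ncard_le (fun a ha => ?_) ?_ (Set.toFinite _)
      · refine ⟨⟨ha.1, ?_⟩, fun e => ?_⟩
        · by_contra h
          have h0 : a ∈ Zs z A ∩ outer Q A := ⟨ha, ha.1, h⟩
          rw [(Set.ncard_eq_zero (Set.toFinite _)).1 (show (Zs z A ∩ outer Q A).ncard = 0 by rw [hk, h2])] at h0
          exact h0
        · obtain ⟨g, hg⟩ := isConj_iff.1 ha.2
          rw [Set.mem_singleton_iff.1 e] at hg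
          exact c.z_ne (conj_eq_one_iff.1 hg)
      · rw [hsum, show (cset Ab s).ncard = 63 from h1, h2, Set.ncard_sdiff, Set.ncard_singleton, c.inner_ncard]
        exact Set.singleton_subset_iff.2 ⟨one_mem _, 1, rfl⟩
    refine c.inner_not_invariant fun m hm a ha => ?_
    by_cases h : a = 1
    · rw [h]; exact ⟨by simp, 1, by simp [val]⟩
    · have hz : a ∈ Zs z A := hall ▸ ⟨ha, h⟩
      have : m * a * m⁻¹ ∈ Zs z A := ⟨c.conj_mem hm hz.1, hz.2.trans (isConj_iff.2 ⟨m, rfl⟩)⟩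
      rw [hall] at this
      exact this.1
  · exact absurd (by rw [hsum, show (cset Ab s).ncard = 63 from h1, h2] : (Zs z A).ncard = 2047) h2047

end Ctx

end CfsgLib.LargeFischer.Thompson
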