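import Cfsg.Agent.Lib.LargeFischer.Thompson.Labelling
import Cfsg.Agent.Lib.LargeFischer.Thompson.Code
import Cfsg.Agent.Lib.Golay.M24

/-!
# The normaliser of the elementary group modulo it is the Mathieu group
-/

set_option autoImplicit false
set_option linter.unusedSectionVars false
set_option linter.style.haveILetI false
set_option maxHeartbeats 1000000

namespace CfsgLib.LargeFischer.Thompson

open Subgroup QuadraticMap
open Cfsg (GolayPt)
open CfsgLib.Schur.Tails.UFour (H4)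
open scoped Pointwise

variable {G : Type*} [Group G] [Finite G] {z : G}
  {Q : Subgroup (centralizer ({z} : Set G))} [Q.Normal] {V : Type*} [AddCommGroup V] [Module (ZMod 2) V]
  [DistribMulAction ((centralizer ({z} : Set G)) ⧸ Q) V] [Finite V] {q : QuadraticForm (ZMod 2) V} {π : ↥Q → V}
  {n : (centralizer ({z} : Set G)) ⧸ Q} {M : Subgroup ((centralizer ({z} : Set G)) ⧸ Q)} {φ : ↥M →* ↥H4}
  {s : V} {E : Subgroup ((centralizer ({z} : Set G)) ⧸ Q)} {D : AddSubgroup V}
  {A : Subgroup G} {Ab : Subgroup ((centralizer ({z} : Set G)) ⧸ Q)}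

namespace Ctx

variable (c : Ctx Q q π n M φ s E D A Ab)
include c

theorem exists_mathieu : ∃ ψ : ↥(Subgroup.normalizer (A : Set G)) →* Equiv.Perm GolayPt,
    ψ.ker = A.subgroupOf (Subgroup.normalizer (A : Set G)) ∧ ψ.range = Cfsg.M24 ∧
    ∀ t ∈ Ns z A, ∃ a b : GolayPt, a ≠ b ∧ ∀ m : ↥(Subgroup.normalizer (A : Set G)),
      (m : G) * t * (m : G)⁻¹ = t ↔ ψ m • ({a, b} : Set GolayPt) = {a, b} := by
  classical
  set N := Subgroup.normalizer (A : Set G) with hN
  set B := A.subgroupOf N with hBdef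
  have hAN : A ≤ N := Subgroup.le_normalizer
  haveI hnormal : B.Normal := Subgroup.normal_subgroupOf_of_le_normalizer le_rfl
  letI : CommGroup ↥B :=
    { (inferInstance : Group ↥B) with
      mul_comm := fun a b => Subtype.ext (Subtype.ext (c.comm a.2 b.2)) }
  obtain ⟨f, hfA, hpair, hcover⟩ := c.exists_labelling
  let N₀ : Set ↥B := {x | ((x : ↥N) : G) ∈ Ns z A}
  let emb : ↥B → G := fun x => ((x : ↥N) : G)
  have hemb : Function.Injective emb := fun x y e => Subtype.ext (Subtype.ext e)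
  have himg : ∀ S : Set G, S ⊆ (A : Set G) → (emb ⁻¹' S).ncard = S.ncard := fun S hS => by
    refine Set.ncard_preimage_of_injective_subset_range hemb fun x hx => ?_
    exact ⟨⟨⟨x, hAN (hS hx)⟩, hS hx⟩, rfl⟩
  have hP : Pairing N₀ (fun x => (⟨⟨f x, hAN (hfA x)⟩, hfA x⟩ : ↥B)) := by
    refine ⟨fun x => hemb (c.sq x.2), ?_, by simp, ?_, fun d hd => ?_, fun h => h.2.1 rfl,
      fun a b hab => hpair a b hab, fun x hx => ?_⟩
    · rw [hBdef, Nat.card_congr (subgroupOfEquivOfLe hAN).toEquiv, c.card]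
    · rw [show N₀ = emb ⁻¹' Ns z A from rfl, himg _ fun x hx => hx.1, c.Ns_counts.1]
    · rw [show {e | e ∈ N₀ ∧ d * e ∈ N₀} = emb ⁻¹' nb z A (emb d) from rfl, himg _ fun x hx => hx.1.1,
        c.degree hd]
    · obtain ⟨a, b, hab, e⟩ := hcover _ hx
      exact ⟨a, b, hab, hemb e⟩
  obtain ⟨ψ, hker, hrange, hpt⟩ := hP.exists_action (MulAut.conjNormal (G := ↥N) (H := B)) fun m x hx => by
    have := c.Ns_conj m.2 hx
    simpa [N₀, MulAut.conjNormal_apply] using this
  have hk : ψ.ker = B := by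
    rw [hker]
    ext m
    rw [MonoidHom.mem_ker]
    constructor
    · intro hm
      refine c.cent fun a ha => ?_
      have e := congrArg emb (DFunLike.congr_fun hm (⟨⟨a, hAN ha⟩, ha⟩ : ↥B))
      simp only [emb, MulAut.conjNormal_apply, MulAut.one_apply, Subgroup.coe_mul, InvMemClass.coe_inv] at e
      exact mul_inv_eq_iff_eq_mul.1 e
    · intro hm
      refine MulEquiv.ext fun x => hemb ?_
      simp only [emb, MulAut.conjNormal_apply, MulAut.one_apply, Subgroup.coe_mul, InvMemClass.coe_inv]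
      exact mul_inv_eq_iff_eq_mul.2 (c.comm (show (m : G) ∈ A from hm) x.2)
  refine ⟨ψ, hk, eq_of_le_of_card_ge hrange ?_, fun t ht => ?_⟩
  · have h := ψ.ker.card_mul_index
    rw [Subgroup.index_ker, hk, hBdef, Nat.card_congr (subgroupOfEquivOfLe hAN).toEquiv, c.card, show Nat.card ↥N = _ from c.orbit_stab.symm, c.Zs_facts.1] at h
    rw [CfsgLib.Golay.card_M24]
    omega
  · obtain ⟨a, b, hab, hiff⟩ := hpt (⟨⟨t, hAN ht.1⟩, ht.1⟩ : ↥B) ht
    refine ⟨a, b, hab, fun m => ?_⟩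
    rw [← hiff m]
    constructor
    · intro e
      exact hemb (by simpa [emb, MulAut.conjNormal_apply] using e)
    · intro e
      simpa [emb, MulAut.conjNormal_apply] using congrArg emb e

end Ctx

/-- Every Sylow subgroup: the normaliser of its Thompson subgroup acts as the Mathieu group. -/
theorem exists_thompson_mathieu (hF : Cfsg.IsOfLargeFischerTypeAt z Q) (T : Sylow 2 G) :
    Cfsg.IsElementaryAbelian 2 (Cfsg.thompsonSubgroupOf 2 (T : Subgroup G)) ∧
    Nat.card ↥(Cfsg.thompsonSubgroupOf 2 (T : Subgroup G)) = 2 ^ 11 ∧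
    ∃ ψ : ↥(Subgroup.normalizer (Cfsg.thompsonSubgroupOf 2 (T : Subgroup G) : Set G)) →* Equiv.Perm GolayPt,
      ψ.ker = (Cfsg.thompsonSubgroupOf 2 (T : Subgroup G)).subgroupOf
        (Subgroup.normalizer (Cfsg.thompsonSubgroupOf 2 (T : Subgroup G) : Set G)) ∧ ψ.range = Cfsg.M24 ∧
      ∀ t ∈ Cfsg.thompsonSubgroupOf 2 (T : Subgroup G), t ≠ 1 → ¬ IsConj z t → ∃ a b : GolayPt, a ≠ b ∧
        ∀ m : ↥(Subgroup.normalizer (Cfsg.thompsonSubgroupOf 2 (T : Subgroup G) : Set G)),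
          (m : G) * t * (m : G)⁻¹ = t ↔ ψ m • ({a, b} : Set GolayPt) = {a, b} := by
  classical
  obtain ⟨ι, _, q, _, π, n, M, φ, s, E, D, A₀, Ab, k, c, e⟩ := exists_thompson hF T
  rw [e]
  refine ⟨elem_map' _ c.elem, (Subgroup.card_map_of_injective (MulEquiv.injective _)).trans c.card, ?_⟩
  obtain ⟨ψ, hker, hrange, hpt⟩ := c.exists_mathieu
  set A' := A₀.map (MulAut.conj k).toMonoidHom with hA'
  have hmem : ∀ x : G, x ∈ A' ↔ k⁻¹ * x * k ∈ A₀ := fun x => by
    constructor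
    · rintro ⟨a, ha, rfl⟩; simpa [mul_assoc] using ha
    · exact fun h => ⟨_, h, by simp [mul_assoc]⟩
  have hN : ∀ m : G, m ∈ Subgroup.normalizer (A' : Set G) ↔ k⁻¹ * m * k ∈ Subgroup.normalizer (A₀ : Set G) := by
    intro m
    rw [Subgroup.mem_normalizer_iff, Subgroup.mem_normalizer_iff]
    constructor
    · intro h a
      have := h (k * a * k⁻¹)
      simp only [hmem] at this
      simpa [mul_assoc] using this
    · intro h a
      simp only [hmem]
      simpa [mul_assoc] using h (k⁻¹ * a * k)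
  let g : ↥(Subgroup.normalizer (A' : Set G)) →* ↥(Subgroup.normalizer (A₀ : Set G)) :=
    MonoidHom.mk' (fun m => ⟨k⁻¹ * m * k, (hN m).1 m.2⟩) fun m m' => Subtype.ext (by simp [mul_assoc])
  have hg : Function.Surjective g := fun y => by
    refine ⟨⟨k * y * k⁻¹, (hN _).2 ?_⟩, Subtype.ext ?_⟩
    · simp [mul_assoc]
    · show k⁻¹ * (k * y * k⁻¹) * k = y
      group
  refine ⟨ψ.comp g, ?_, ?_, fun t ht ht1 htz => ?_⟩
  · rw [← MonoidHom.comap_ker, hker]
    ext m
    exact (hmem m).symm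
  · rw [MonoidHom.range_comp, MonoidHom.range_eq_top.2 hg, ← MonoidHom.range_eq_map, hrange]
  · obtain ⟨a, b, hab, hiff⟩ := hpt (k⁻¹ * t * k) ⟨(hmem t).1 ht, fun e => ht1 (by
      have := congrArg (fun x => k * x * k⁻¹) e; simpa [mul_assoc] using this),
      fun h => htz (h.trans (isConj_iff.2 ⟨k, by group⟩))⟩
    refine ⟨a, b, hab, fun m => ?_⟩
    refine Iff.trans ?_ (hiff (g m))
    show _ ↔ k⁻¹ * m * k * (k⁻¹ * t * k) * (k⁻¹ * m * k)⁻¹ = k⁻¹ * t * k
    rw [show k⁻¹ * m * k * (k⁻¹ * t * k) * (k⁻¹ * m * k)⁻¹ = k⁻¹ * ((m : G) * t * (m : G)⁻¹) * k by group,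
      mul_left_inj, mul_right_inj]

end CfsgLib.LargeFischer.Thompson
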