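import Cfsg.Agent.Lib.LargeFischer.Thompson.Count

/-!
# The two orbits of the normaliser on the elementary group
-/

set_option autoImplicit false
set_option linter.unusedSectionVars false
set_option linter.style.haveILetI false
set_option maxHeartbeats 1000000

namespace CfsgLib.LargeFischer.Thompson

open Subgroup QuadraticMap
open CfsgLib.Schur.Tails.UFour (H4)

variable {G : Type*} [Group G] [Finite G] {z : G}
  {Q : Subgroup (centralizer ({z} : Set G))} [Q.Normal] {V : Type*} [AddCommGroup V] [Module (ZMod 2) V]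
  [DistribMulAction ((centralizer ({z} : Set G)) ⧸ Q) V] [Finite V] {q : QuadraticForm (ZMod 2) V} {π : ↥Q → V}
  {n : (centralizer ({z} : Set G)) ⧸ Q} {M : Subgroup ((centralizer ({z} : Set G)) ⧸ Q)} {φ : ↥M →* ↥H4}
  {s : V} {E : Subgroup ((centralizer ({z} : Set G)) ⧸ Q)} {D : AddSubgroup V}
  {A : Subgroup G} {Ab : Subgroup ((centralizer ({z} : Set G)) ⧸ Q)}

/-- The other elements of the elementary group. -/
def Ns (z : G) (A : Subgroup G) : Set G := {a | a ∈ A ∧ a ≠ 1 ∧ ¬ IsConj z a}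

namespace Ctx

variable (c : Ctx Q q π n M φ s E D A Ab)
include c

theorem not_isConj_one : ¬ IsConj z (1 : G) := fun h => by
  obtain ⟨g, hg⟩ := isConj_iff.1 h
  exact c.z_ne (conj_eq_one_iff.1 hg)

theorem Ns_conj {m a : G} (hm : m ∈ Subgroup.normalizer (A : Set G)) (ha : a ∈ Ns z A) : m * a * m⁻¹ ∈ Ns z A :=
  ⟨c.conj_mem hm ha.1, fun e => ha.2.1 (conj_eq_one_iff.1 e),
    fun h => ha.2.2 (h.trans (isConj_iff.2 ⟨m, rfl⟩).symm)⟩

theorem Ns_counts : (Ns z A).ncard = 276 ∧ (Ns z A ∩ inner Q A).ncard = 36 ∧ (Ns z A ∩ outer Q A).ncard = 240 := by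
  classical
  obtain ⟨h1771, h45⟩ := c.Zs_facts
  have hN : Ns z A = ((A : Set G) \ {1}) \ Zs z A := Set.ext fun a =>
    ⟨fun h => ⟨⟨h.1, h.2.1⟩, fun h' => h.2.2 h'.2⟩, fun h => ⟨h.1.1, h.1.2, fun h' => h.2 ⟨h.1.1, h'⟩⟩⟩
  have hsub : Zs z A ⊆ (A : Set G) \ {1} := fun a ha =>
    ⟨ha.1, fun e => c.not_isConj_one (Set.mem_singleton_iff.1 e ▸ ha.2)⟩
  have h276 : (Ns z A).ncard = 276 := by
    rw [hN, Set.ncard_sdiff hsub, Set.ncard_sdiff (Set.singleton_subset_iff.2 (one_mem A)), Set.ncard_singleton,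
      ← Nat.card_coe_set_eq, SetLike.coe_sort_coe, c.card, h1771]
    norm_num
  have hI : Ns z A ∩ inner Q A = (inner Q A \ {1}) \ (Zs z A ∩ inner Q A) := Set.ext fun a =>
    ⟨fun h => ⟨⟨h.2, h.1.2.1⟩, fun h' => h.1.2.2 h'.1.2⟩,
      fun h => ⟨⟨h.1.1.1, h.1.2, fun h' => h.2 ⟨⟨h.1.1.1, h'⟩, h.1.1⟩⟩, h.1.1⟩⟩
  have h36 : (Ns z A ∩ inner Q A).ncard = 36 := by
    rw [hI, Set.ncard_sdiff (show Zs z A ∩ inner Q A ⊆ inner Q A \ {1} from fun a ha => ⟨ha.2, (hsub ha.1).2⟩),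
      Set.ncard_sdiff (show {(1 : G)} ⊆ inner Q A from Set.singleton_subset_iff.2 ⟨one_mem A, 1, rfl⟩), Set.ncard_singleton, c.inner_ncard,
      c.Zs_inner_ncard, h45]
  refine ⟨h276, h36, ?_⟩
  have hd : Ns z A = (Ns z A ∩ inner Q A) ∪ (Ns z A ∩ outer Q A) := Set.ext fun a => by
    constructor
    · intro ha
      by_cases h : ∃ u : ↥Q, val u = a
      · exact Or.inl ⟨ha, ha.1, h⟩
      · exact Or.inr ⟨ha, ha.1, h⟩
    · rintro (h | h) <;> exact h.1
  have h := Set.ncard_union_eq (s := Ns z A ∩ inner Q A) (t := Ns z A ∩ outer Q A)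
    (Set.disjoint_left.2 fun a h h' => h'.2.2 h.2.2) (Set.toFinite _) (Set.toFinite _)
  rw [← hd, h276, h36] at h
  omega

/-- The two orbits. -/
theorem Ns_trans {a b : G} (ha : a ∈ Ns z A) (hb : b ∈ Ns z A) :
    ∃ m ∈ Subgroup.normalizer (A : Set G), m * a * m⁻¹ = b := by
  classical
  obtain ⟨h276, h36, h240⟩ := c.Ns_counts
  obtain ⟨b₀, hb₀⟩ := (Set.ncard_pos (Set.toFinite _)).1 (show 0 < (Ns z A ∩ outer Q A).ncard by omega)
  set O : Set G := {x | ∃ m ∈ Subgroup.normalizer (A : Set G), m * b₀ * m⁻¹ = x}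
  suffices h : Ns z A ⊆ O by
    obtain ⟨m, hm, rfl⟩ := h ha
    obtain ⟨m', hm', rfl⟩ := h hb
    exact ⟨m' * m⁻¹, mul_mem hm' (inv_mem hm), by group⟩
  have hOinv : ∀ m ∈ Subgroup.normalizer (A : Set G), ∀ x, x ∈ O → m * x * m⁻¹ ∈ O := by
    rintro m hm x ⟨m', hm', rfl⟩
    exact ⟨m * m', mul_mem hm hm', by group⟩
  have hON : O ⊆ Ns z A := fun x ⟨m, hm, e⟩ => e ▸ c.Ns_conj hm hb₀.1
  have hout : Ns z A ∩ outer Q A ⊆ O := by
    obtain ⟨k, hk⟩ := c.outer_dvd (S := O ∩ outer Q A) Set.inter_subset_right fun m hm x hx =>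
      ⟨hOinv m (mem_inf.1 hm).1 x hx.1, c.conj_mem (mem_inf.1 hm).1 hx.2.1,
        fun h => hx.2.2 ((c.inf_invariant m hm x hx.2.1).1 h)⟩
    have hpos : 0 < (O ∩ outer Q A).ncard :=
      (Set.ncard_pos (Set.toFinite _)).2 ⟨b₀, ⟨1, one_mem _, by group⟩, hb₀.2⟩
    have e : O ∩ outer Q A = Ns z A ∩ outer Q A :=
      Set.eq_of_subset_of_ncard_le (fun x hx => ⟨hON hx.1, hx.2⟩) (by omega) (Set.toFinite _)
    exact e ▸ Set.inter_subset_left
  intro x hx
  by_contra hxO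
  set R : Set G := Ns z A \ O with hR
  have hRinv : ∀ m ∈ Subgroup.normalizer (A : Set G), ∀ y ∈ R, m * y * m⁻¹ ∈ R := fun m hm y hy =>
    ⟨c.Ns_conj hm hy.1, fun h => hy.2 (by
      have := hOinv m⁻¹ (inv_mem hm) _ h
      rwa [show m⁻¹ * (m * y * m⁻¹) * m⁻¹⁻¹ = y by group] at this)⟩
  set Qg := Q.map (centralizer ({z} : Set G)).subtype
  set W := closure R
  have hWQ : W ≤ Qg := (closure_le _).2 fun y hy => by
    by_cases h : ∃ u : ↥Q, val u = y
    · obtain ⟨u, rfl⟩ := h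
      exact ⟨_, u.2, rfl⟩
    · exact absurd (hout ⟨hy.1, hy.1.1, h⟩) hy.2
  have hWA : W ≤ A := (closure_le _).2 fun y hy => hy.1.1
  have hWinv : ∀ m ∈ Subgroup.normalizer (A : Set G), ∀ y ∈ W, m * y * m⁻¹ ∈ W := by
    intro m hm y hy
    have hle : W.map (MulAut.conj m).toMonoidHom ≤ W := by
      rw [MonoidHom.map_closure, closure_le]
      rintro _ ⟨y, hy, rfl⟩
      exact subset_closure (hRinv m hm y hy)
    exact hle ⟨y, hy, rfl⟩
  have hzW : z ∈ W := by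
    obtain ⟨u, hu, hux⟩ := hWQ (subset_closure ⟨hx, hxO⟩)
    set u' : ↥Q := ⟨u, hu⟩
    have hu0 : π u' ≠ 0 := fun h => by
      rcases (c.mdl.ker u').1 h with e | e
      · exact hx.2.1 (hux.symm.trans e)
      · exact hx.2.2 (by rw [← hux, show (centralizer ({z} : Set G)).subtype u = z from e])
    obtain ⟨b, hb⟩ := c.fibre hu0
    rw [show val u' = x from hux] at hb
    have h1 : x * z ∈ W := hb ▸ hWinv _ (c.q_mem_N b) x (subset_closure ⟨hx, hxO⟩)
    have h2 := mul_mem (inv_mem (subset_closure ⟨hx, hxO⟩ : x ∈ W)) h1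
    rwa [inv_mul_cancel_left] at h2
  have hZW : Zs z A ⊆ inner Q A := by
    rintro y ⟨hy, hyc⟩
    obtain ⟨g, hg⟩ := isConj_iff.1 hyc
    obtain ⟨m, hm, e⟩ := c.fusion c.z_mem (g := g) (hg ▸ hy)
    obtain ⟨u, hu, huy⟩ := hWQ (hWinv m hm z hzW)
    exact ⟨hy, ⟨u, hu⟩, huy.trans (e.trans hg)⟩
  have := Set.ncard_le_ncard hZW (Set.toFinite _)
  rw [c.Zs_facts.1, c.inner_ncard] at this
  omega

end Ctx

/-- Every Sylow subgroup: its Thompson subgroup is a conjugate of the elementary group. -/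
theorem exists_thompson (hF : Cfsg.IsOfLargeFischerTypeAt z Q) (T : Sylow 2 G) :
    ∃ (ι : Type) (_ : Fintype ι) (q : QuadraticForm (ZMod 2) (ι → ZMod 2))
      (_ : DistribMulAction ((centralizer ({z} : Set G)) ⧸ Q) (ι → ZMod 2)) (π : ↥Q → ι → ZMod 2)
      (n : (centralizer ({z} : Set G)) ⧸ Q) (M : Subgroup ((centralizer ({z} : Set G)) ⧸ Q)) (φ : ↥M →* ↥H4)
      (s : ι → ZMod 2) (E : Subgroup ((centralizer ({z} : Set G)) ⧸ Q)) (D : AddSubgroup (ι → ZMod 2))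
      (A : Subgroup G) (Ab : Subgroup ((centralizer ({z} : Set G)) ⧸ Q)) (k : G),
      Ctx Q q π n M φ s E D A Ab ∧
        Cfsg.thompsonSubgroupOf 2 (T : Subgroup G) = A.map (MulAut.conj k).toMonoidHom := by
  classical
  obtain ⟨ι, fι, q, inst, π, n, M, φ, m⟩ := exists_model z Q hF
  obtain ⟨s, E, D, A, Ab, T₀, c, hAT⟩ := exists_ctx hF m
  obtain ⟨k, hk⟩ := MulAction.exists_smul_eq G T₀ T
  refine ⟨ι, fι, q, inst, π, n, M, φ, s, E, D, A, Ab, k, c, ?_⟩
  set A' := A.map (MulAut.conj k).toMonoidHom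
  have hA'T : A' ≤ (T : Subgroup G) := by
    rintro _ ⟨a, ha, rfl⟩
    rw [← hk]
    exact Subgroup.smul_mem_pointwise_smul a (MulAut.conj k) (T₀ : Subgroup G) (hAT ha)
  have hA'e : Cfsg.IsElementaryAbelian 2 A' := elem_map' _ c.elem
  have hA'c : Nat.card ↥A' = 2 ^ 11 := by
    rw [show A' = A.map (MulAut.conj k).toMonoidHom from rfl, card_map_of_injective (MulEquiv.injective _), c.card]
  have huniq : ∀ B : Subgroup G, Cfsg.IsElementaryAbelian 2 B → 2 ^ 11 ≤ Nat.card ↥B → B ≤ (T : Subgroup G) →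
      B = A' := by
    intro B hB h11 hBT
    have e := c.uniq (B.map (MulAut.conj k⁻¹).toMonoidHom) _ (elem_map' _ hB)
      (by rw [card_map_of_injective (MulEquiv.injective _)]; exact h11) (T.2.map (MulAut.conj k⁻¹).toMonoidHom)
      (fun a ha => ⟨k * a * k⁻¹, hA'T ⟨a, ha, rfl⟩, by simp [mul_assoc]⟩) (map_mono hBT)
    show B = A.map (MulAut.conj k).toMonoidHom
    rw [← e, Subgroup.map_map]
    convert (Subgroup.map_id B).symm
    ext y
    simp [mul_assoc]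
  set A₁ := A'.subgroupOf (T : Subgroup G)
  have hmax : Cfsg.maxElementaryAbelianSubgroups 2 ↥(T : Subgroup G) = {A₁} := by
    have hA₁ : Cfsg.IsElementaryAbelian 2 A₁ := elem_comap (subtype_injective _) hA'e
    have hc₁ : Nat.card ↥A₁ = 2 ^ 11 := (Nat.card_congr (subgroupOfEquivOfLe hA'T).toEquiv).trans hA'c
    have hup : ∀ X : Subgroup ↥(T : Subgroup G), Cfsg.IsElementaryAbelian 2 X → 2 ^ 11 ≤ Nat.card ↥X → X = A₁ := by
      intro X hX h11
      have e := huniq _ (elem_map' _ hX) (by rw [card_map_of_injective (subtype_injective _)]; exact h11)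
        (map_subtype_le X)
      show X = A'.subgroupOf (T : Subgroup G)
      rw [← e]
      exact (comap_map_eq_self_of_injective (subtype_injective _) X).symm
    refine Set.eq_singleton_iff_unique_mem.2 ⟨⟨hA₁, fun X hX => ?_⟩,
      fun X hX => hup X hX.1 (hc₁ ▸ hX.2 A₁ hA₁)⟩
    by_contra h
    exact h (by rw [hup X hX (by rw [← hc₁]; exact le_of_not_ge h)])
  rw [Cfsg.thompsonSubgroupOf, Cfsg.thompsonSubgroup, hmax, sSup_singleton, subgroupOf_map_subtype,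
    inf_eq_left.2 hA'T]

end CfsgLib.LargeFischer.Thompson
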